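import Cfsg.Agent.Lib.H2.Rec.Fus2
import Cfsg.Agent.Lib.H2.CycP
import Cfsg.Agent.Lib.H2.CI.Simple
import Cfsg.Agent.Lib.H2.CI.SL2
import Cfsg.Agent.Lib.H11.BSW.Main

set_option autoImplicit false

/-! Simple groups in which the centralizer of an involution has a cyclic subgroup of index two
all of whose nonidentity elements have their centralizers inside. -/

namespace H2.Rec

open Subgroup Cfsg

variable {X : Type*} [Group X] [Finite X] {t : X} {K : Subgroup X}

theorem cyc_unique (hK : IsCyclic K) {a b : X} (ha : a ∈ K) (hb : b ∈ K) (h : orderOf a = orderOf b) :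
    zpowers a = zpowers b := by
  have h1 : orderOf (⟨a, ha⟩ : K) = orderOf (⟨b, hb⟩ : K) := by
    rw [Subgroup.orderOf_mk, Subgroup.orderOf_mk, h]
  have h2 := H2.CycP.zpowers_eq_of_orderOf_eq hK h1
  have h3 := congrArg (fun S : Subgroup K => S.map K.subtype) h2
  simpa [MonoidHom.map_zpowers] using h3

theorem cyc_comm (hK : IsCyclic K) {a b : X} (ha : a ∈ K) (hb : b ∈ K) : a * b = b * a := by
  obtain ⟨k₀, hk₀⟩ := (Subgroup.isCyclic_iff_exists_zpowers_eq_top K).1 hK
  rw [← hk₀] at ha hb
  obtain ⟨i, rfl⟩ := mem_zpowers_iff.1 ha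
  obtain ⟨j, rfl⟩ := mem_zpowers_iff.1 hb
  rw [← zpow_add, ← zpow_add, add_comm]

theorem cent_eq_of_zpowers {a b : X} (h : zpowers a = zpowers b) :
    centralizer ({a} : Set X) = centralizer ({b} : Set X) := by
  have key : ∀ a b : X, zpowers a = zpowers b → centralizer ({a} : Set X) ≤ centralizer ({b} : Set X) := by
    intro a b h x hx
    have h1 : b ∈ zpowers a := by rw [h]; exact mem_zpowers b
    obtain ⟨n, rfl⟩ := mem_zpowers_iff.1 h1
    rw [mem_centralizer_singleton_iff] at hx ⊢
    exact (show Commute x a from hx).zpow_right n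
  exact le_antisymm (key a b h) (key b a h.symm)

theorem mem_cent_conj {g x c : X} : c ∈ centralizer ({g * x * g⁻¹} : Set X) ↔
    g⁻¹ * c * g ∈ centralizer ({x} : Set X) := by
  rw [mem_centralizer_singleton_iff, mem_centralizer_singleton_iff]
  constructor
  · intro h
    calc g⁻¹ * c * g * x = g⁻¹ * (c * (g * x * g⁻¹)) * g := by group
      _ = x * (g⁻¹ * c * g) := by rw [h]; group
  · intro h
    calc c * (g * x * g⁻¹) = g * ((g⁻¹ * c * g) * x) * g⁻¹ := by group
      _ = (g * x * g⁻¹) * c := by rw [h]; group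

/-- hypotheses -/
structure Cyc2 (t : X) (K : Subgroup X) : Prop extends Cyc t K where
  syl : ∀ r : ℕ, r.Prime → r ≠ 2 → r ∣ Nat.card K → ¬ r ∣ K.index
  cent : ∀ x ∈ K, x ≠ 1 → centralizer ({x} : Set X) = K ∨
    centralizer ({x} : Set X) = centralizer ({t} : Set X)

theorem Cyc.t_ord (h : Cyc t K) : orderOf t = 2 := orderOf_eq_prime (by rw [sq]; exact h.tt) h.t1

theorem not_ab (h : Cyc t K) (htwo : ∃ z : X, z * z = 1 ∧ z ≠ 1 ∧ z ≠ t ∧ z * t = t * z) [IsSimpleGroup X] :
    ¬ IsMulCommutative X := by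
  intro hab
  obtain ⟨z, hz, hz1, hzt, -⟩ := htwo
  have hn : (zpowers t).Normal := by
    constructor
    intro n hn g
    have : g * n * g⁻¹ = n := by rw [hab.is_comm.comm g n]; group
    rw [this]; exact hn
  rcases hn.eq_bot_or_eq_top with h1 | h1
  · rw [zpowers_eq_bot] at h1
    exact h.t1 h1
  · have hz2 : z ∈ zpowers t := by rw [h1]; trivial
    obtain ⟨n, hn⟩ := mem_zpowers_iff.1 hz2
    rcases Int.even_or_odd' n with ⟨m, rfl | rfl⟩
    · apply hz1
      rw [← hn, zpow_mul, zpow_ofNat, sq, h.tt, one_zpow]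
    · apply hzt
      rw [← hn, zpow_add, zpow_mul, zpow_ofNat, sq, h.tt, one_zpow, zpow_one, one_mul]

/-- if all involution centralizers are abelian, then `C(t)` is a 2-group -/
theorem no_odd_of_ci [IsSimpleGroup X] (hna : ¬ IsMulCommutative X) (hci : H2.CI.CI X) (ht : orderOf t = 2)
    {r : ℕ} (hr : r.Prime) (hr2 : r ≠ 2) : ¬ r ∣ Nat.card (centralizer ({t} : Set X)) := by
  intro hdiv
  have heven : Even (Nat.card X) := by
    rw [even_iff_two_dvd, ← ht]; exact orderOf_dvd_natCard t
  obtain ⟨F, iF, iFf, hchar, h4, ⟨e⟩⟩ := H2.CI.of_simple hna hci heven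
  have h1 : Nat.card (centralizer ({e t} : Set (Matrix.SpecialLinearGroup (Fin 2) F))) = Fintype.card F := by
    apply H2.CI.card_cent_invol
    · have h0 : t * t = 1 := by rw [← sq, ← ht, pow_orderOf_eq_one]
      rw [← map_mul, h0, map_one]
    · intro h2
      have : t = 1 := by apply e.injective; rw [h2, map_one]
      rw [this, orderOf_one] at ht
      omega
  have h2 : Nat.card (centralizer ({t} : Set X)) = Fintype.card F := by
    rw [← h1]
    refine Nat.card_congr (Equiv.subtypeEquiv e.toEquiv ?_)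
    intro a
    rw [mem_centralizer_singleton_iff, mem_centralizer_singleton_iff]
    constructor
    · intro h3
      change e a * e t = e t * e a
      rw [← map_mul, h3, map_mul]
    · intro h3
      apply e.injective
      rw [map_mul, map_mul]; exact h3
  obtain ⟨n, hp, hn⟩ := FiniteField.card F 2
  rw [h2, hn] at hdiv
  exact hr2 ((Nat.prime_dvd_prime_iff_eq hr Nat.prime_two).1 (hr.dvd_of_dvd_pow hdiv))

theorem Cyc.K_comm (h : Cyc t K) {a b : X} (ha : a ∈ K) (hb : b ∈ K) : a * b = b * a :=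
  cyc_comm h.cyc ha hb

/-- a second involution in the centre of `C(t)` makes all involution centralizers abelian -/
theorem Cyc.ci_of (h : Cyc t K) {u : X} (hu : u * u = 1) (hu1 : u ≠ 1) (hut : u ≠ t)
    (huC : ∀ c ∈ centralizer ({t} : Set X), c * u = u * c) : H2.CI.CI X := by
  obtain ⟨s, hsC, hsK, hss, hs1, -, hconj⟩ := h.fusion
  have htC : t ∈ centralizer ({t} : Set X) := h.KH h.tK
  have huC' : u ∈ centralizer ({t} : Set X) := by
    rw [mem_centralizer_singleton_iff]
    exact (huC t htC).symm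
  have huK : u ∉ K := fun h1 => hut (unique_inv h.cyc h.tK h1 h.tt hu h.t1 hu1)
  have hab : ∀ c ∈ centralizer ({t} : Set X), ∀ d ∈ centralizer ({t} : Set X), c * d = d * c := by
    have key : ∀ c ∈ centralizer ({t} : Set X), ∀ d ∈ K, c * d = d * c := by
      intro c hc d hd
      rcases h.mem_or huC' huK hc with h1 | h1
      · exact h.K_comm h1 hd
      · have h2 : c = u * (u * c) := by rw [← mul_assoc, hu, one_mul]
        have h3 := huC d (h.KH hd)
        calc c * d = u * ((u * c) * d) := by rw [← mul_assoc, ← h2]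
          _ = (u * d) * (u * c) := by rw [h.K_comm h1 hd]; group
          _ = d * (u * (u * c)) := by rw [← h3]; group
          _ = d * c := by rw [← h2]
    intro c hc d hd
    rcases h.mem_or huC' huK hd with h1 | h1
    · exact key c hc d h1
    · have h2 : d = u * (u * d) := by rw [← mul_assoc, hu, one_mul]
      have h3 := huC c hc
      have h4 := key c hc _ h1
      calc c * d = (c * u) * (u * d) := by rw [mul_assoc, ← h2]
        _ = u * (c * (u * d)) := by rw [h3]; group
        _ = u * (u * d) * c := by rw [h4]; group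
        _ = d * c := by rw [← h2]
  intro v hv x y hx hy
  have hvv : v * v = 1 := by rw [← sq, ← hv, pow_orderOf_eq_one]
  have hv1 : v ≠ 1 := by
    rintro rfl
    rw [orderOf_one] at hv
    omega
  obtain ⟨g, hg⟩ := isConj_iff.1 (hconj v hvv hv1)
  have e : ∀ x, x * v = v * x → g⁻¹ * x * g ∈ centralizer ({t} : Set X) := by
    intro x hx
    rw [← mem_cent_conj, mem_centralizer_singleton_iff, hg]
    exact hx
  have h1 := hab _ (e x hx) _ (e y hy)
  calc x * y = g * ((g⁻¹ * x * g) * (g⁻¹ * y * g)) * g⁻¹ := by group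
    _ = y * x := by rw [h1]; group

/-- the inverted part: odd order elements of `K` centralized by `s` are trivial -/
theorem Cyc2.odd_part [IsSimpleGroup X] (h : Cyc2 t K) {s : X} (hsC : s ∈ centralizer ({t} : Set X))
    (hsK : s ∉ K) (hss : s * s = 1) {w : X} (hw : w ∈ K) (hsw : s * w = w * s) (hodd : Odd (orderOf w)) :
    w = 1 := by
  classical
  by_contra hw1
  have hc := h.toCyc
  have hst : s * t = t * s := mem_centralizer_singleton_iff.1 hsC
  have hs1 : s ≠ 1 := fun e => hsK (e ▸ one_mem _)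
  have hst' : s ≠ t := fun e => hsK (e ▸ hc.tK)
  have hna := not_ab hc ⟨s, hss, hs1, hst', hst⟩
  -- a power of prime order
  obtain ⟨r, hr, hrd⟩ := Nat.exists_prime_and_dvd (n := orderOf w) (by rwa [Ne, orderOf_eq_one_iff])
  have hr2 : r ≠ 2 := by
    rintro rfl
    exact (Nat.not_even_iff_odd.2 hodd) (even_iff_two_dvd.2 hrd)
  have hrf : Fact r.Prime := ⟨hr⟩
  obtain ⟨x, hxK, hxo, hsx⟩ : ∃ x ∈ K, orderOf x = r ∧ s * x = x * s := by
    refine ⟨w ^ (orderOf w / r), pow_mem hw _, orderOf_pow_orderOf_div (orderOf_pos w).ne' hrd, ?_⟩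
    exact (show Commute s w from hsw).pow_right _
  have hx1 : x ≠ 1 := by
    rintro rfl
    rw [orderOf_one] at hxo
    exact hr.one_lt.ne hxo
  have hCx : centralizer ({x} : Set X) = centralizer ({t} : Set X) := by
    rcases h.cent x hxK hx1 with h1 | h1
    · exfalso
      apply hsK
      rw [← h1, mem_centralizer_singleton_iff]
      exact hsx
    · exact h1
  have hrK : r ∣ Nat.card K := by
    rw [← hxo]
    have := orderOf_dvd_natCard (⟨x, hxK⟩ : K)
    rwa [Subgroup.orderOf_mk] at this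
  have hrC : r ∣ Nat.card (centralizer ({t} : Set X)) := hrK.trans (card_dvd_of_le hc.KH)
  -- a Sylow `r`-subgroup inside `K`
  obtain ⟨R, hRK, hxR⟩ : ∃ R : Sylow r X, (R : Subgroup X) ≤ K ∧ x ∈ (R : Subgroup X) := by
    have h1 : IsPGroup r (zpowers (⟨x, hxK⟩ : K)) := by
      apply IsPGroup.of_card (n := 1)
      rw [Nat.card_zpowers, pow_one, Subgroup.orderOf_mk, hxo]
    obtain ⟨Q, hQ⟩ := h1.exists_le_sylow
    have h2 : IsPGroup r ((Q : Subgroup K).map K.subtype) := Q.2.map _
    have h3 : ¬ r ∣ ((Q : Subgroup K).map K.subtype).index := by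
      rw [index_map_subtype]
      intro h4
      rcases (Nat.Prime.dvd_mul hr).1 h4 with h5 | h5
      · exact Q.not_dvd_index h5
      · exact h.syl r hr hr2 hrK h5
    refine ⟨h2.toSylow h3, map_subtype_le _, ?_⟩
    exact ⟨⟨x, hxK⟩, hQ (mem_zpowers _), rfl⟩
  -- `s` centralizes `R`
  have hsR : ∀ ρ ∈ (R : Subgroup X), s * ρ = ρ * s := by
    intro ρ hρ
    have hρK := hRK hρ
    obtain ⟨v, hv⟩ : ∃ v, v = s * ρ * s⁻¹ * ρ⁻¹ := ⟨_, rfl⟩
    have hsρ : s * ρ * s⁻¹ ∈ K := hc.norm hsC hρK
    have hvK : v ∈ K := by rw [hv]; exact mul_mem hsρ (inv_mem hρK)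
    have hsinv : s⁻¹ = s := inv_eq_of_mul_eq_one_right hss
    have hsv : s * v * s⁻¹ = v⁻¹ := by
      have e1 : s * v * s⁻¹ = (s * s) * ρ * (s⁻¹ * s⁻¹) * (s * ρ * s⁻¹)⁻¹ := by rw [hv]; group
      have e2 : s⁻¹ * s⁻¹ = 1 := by rw [hsinv, hss]
      rw [e1, hss, e2, one_mul, mul_one, hv]
      group
    by_cases hv1 : v = 1
    · rw [hv] at hv1
      calc s * ρ = (s * ρ * s⁻¹ * ρ⁻¹) * ρ * s := by group
        _ = ρ * s := by rw [hv1, one_mul]
    · exfalso
      obtain ⟨k, hk⟩ := IsPGroup.iff_orderOf.1 R.2 ⟨ρ, hρ⟩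
      rw [Subgroup.orderOf_mk] at hk
      have hvp : v ^ (r ^ k) = 1 := by
        have hcm : Commute (s * ρ * s⁻¹) ρ⁻¹ := hc.K_comm hsρ (inv_mem hρK)
        rw [hv, hcm.mul_pow, conj_pow, inv_pow, ← hk, pow_orderOf_eq_one]
        group
      obtain ⟨j, -, hj⟩ := (Nat.dvd_prime_pow hr).1 (orderOf_dvd_of_pow_eq_one hvp)
      have hj0 : j ≠ 0 := by
        rintro rfl
        rw [pow_zero, orderOf_eq_one_iff] at hj
        exact hv1 hj
      have hdv : r ∣ orderOf v := by rw [hj]; exact dvd_pow_self r hj0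
      have h5 : orderOf (v ^ (orderOf v / r)) = orderOf x := by
        rw [orderOf_pow_orderOf_div (orderOf_pos v).ne' hdv, hxo]
      have h6 := cyc_unique hc.cyc (pow_mem hvK _) hxK h5
      have h7 : x ∈ zpowers (v ^ (orderOf v / r)) := by rw [h6]; exact mem_zpowers x
      obtain ⟨n, hn⟩ := mem_zpowers_iff.1 h7
      have h8 : s * x * s⁻¹ = x⁻¹ := by
        rw [← hn, ← conj_zpow, ← conj_pow, hsv]
        group
      have h9 : s * x * s⁻¹ = x := by rw [hsx]; group
      rw [h9] at h8
      have h10 : x ^ 2 = 1 := by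
        rw [sq]
        nth_rewrite 2 [h8]
        group
      have h11 := orderOf_dvd_of_pow_eq_one h10
      rw [hxo] at h11
      exact hr2 ((Nat.prime_dvd_prime_iff_eq hr Nat.prime_two).1 h11)
  have hCR : ∀ g ∈ centralizer ({t} : Set X), ∀ ρ ∈ (R : Subgroup X), g * ρ = ρ * g := by
    intro g hg ρ hρ
    rcases hc.mem_or hsC hsK hg with h1 | h1
    · exact hc.K_comm h1 (hRK hρ)
    · have h2 : g = s * (s * g) := by rw [← mul_assoc, hss, one_mul]
      have h3 := hc.K_comm h1 (hRK hρ)
      calc g * ρ = s * ((s * g) * ρ) := by rw [← mul_assoc, ← h2]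
        _ = (s * ρ) * (s * g) := by rw [h3]; group
        _ = ρ * (s * (s * g)) := by rw [hsR ρ hρ]; group
        _ = ρ * g := by rw [← h2]
  -- Burnside
  have hN : normalizer ((R : Subgroup X) : Set X) ≤ centralizer ((R : Subgroup X) : Set X) := by
    intro g hg
    have h1 : g * x * g⁻¹ ∈ (R : Subgroup X) := (mem_normalizer_iff.1 hg x).1 hxR
    have h2 : orderOf (g * x * g⁻¹) = orderOf x :=
      orderOf_injective (MulAut.conj g).toMonoidHom (MulAut.conj g).injective x
    have h3 := cent_eq_of_zpowers (cyc_unique hc.cyc (hRK h1) hxK h2)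
    have h4 : ∀ c ∈ centralizer ({t} : Set X), c * (g * t * g⁻¹) = (g * t * g⁻¹) * c := by
      intro c hcc
      rw [← hCx, ← h3, mem_cent_conj, hCx, ← mem_cent_conj, mem_centralizer_singleton_iff] at hcc
      exact hcc
    have h5 : (g * t * g⁻¹) * (g * t * g⁻¹) = 1 := by
      calc (g * t * g⁻¹) * (g * t * g⁻¹) = g * (t * t) * g⁻¹ := by group
        _ = 1 := by rw [hc.tt]; group
    have h6 : g * t * g⁻¹ ≠ 1 := by
      intro h7
      apply hc.t1
      calc t = g⁻¹ * (g * t * g⁻¹) * g := by group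
        _ = 1 := by rw [h7]; group
    by_cases h7 : g * t * g⁻¹ = t
    · have h8 : g ∈ centralizer ({t} : Set X) := by
        rw [mem_centralizer_singleton_iff]
        calc g * t = (g * t * g⁻¹) * g := by group
          _ = t * g := by rw [h7]
      rw [mem_centralizer_iff]
      intro ρ hρ
      exact (hCR g h8 ρ hρ).symm
    · exfalso
      exact no_odd_of_ci hna (hc.ci_of h5 h6 h7 h4) hc.t_ord hr hr2 hrC
  have hcompl := MonoidHom.ker_transferSylow_isComplement' R hN
  have hker := IsSimpleGroup.eq_bot_or_eq_top_of_normal (MonoidHom.transferSylow R hN).ker inferInstance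
  have h4 := hcompl.card_mul
  rcases hker with hker | hker
  · rw [hker, card_bot, one_mul] at h4
    obtain ⟨n, hn⟩ := IsPGroup.iff_card.1 R.2
    have h5 : 2 ∣ Nat.card X := by rw [← hc.t_ord]; exact orderOf_dvd_natCard t
    rw [← h4, hn] at h5
    exact hr2 ((Nat.prime_dvd_prime_iff_eq Nat.prime_two hr).1 (Nat.prime_two.dvd_of_dvd_pow h5)).symm
  · rw [hker, card_top] at h4
    have h5 : Nat.card (R : Subgroup X) = 1 := by
      have := Nat.card_pos (α := X)
      exact Nat.eq_of_mul_eq_mul_left this (by rw [h4, mul_one])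
    rw [card_eq_one] at h5
    rw [h5, mem_bot] at hxR
    exact hx1 hxR

/-- **recognition of `PSL(2, q)`** -/
theorem Cyc2.psl [IsSimpleGroup X] (h : Cyc2 t K) :
    ∃ (F : Type) (_ : Field F) (_ : Fintype F), Odd (Fintype.card F) ∧
      Nonempty (X ≃* Matrix.ProjectiveSpecialLinearGroup (Fin 2) F) := by
  classical
  have hc := h.toCyc
  obtain ⟨s, hsC, hsK, hss, hs1, hinv2, hconj⟩ := hc.fusion
  have hsinv : s⁻¹ = s := inv_eq_of_mul_eq_one_right hss
  have hinv : ∀ x ∈ K, s * x * s⁻¹ = x⁻¹ := by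
    intro x hx
    obtain ⟨a, m, hm, hcard⟩ := Nat.exists_eq_pow_mul_and_not_dvd (n := Nat.card K) Nat.card_pos.ne' 2
      (by norm_num)
    have hsx : s * x * s⁻¹ ∈ K := hc.norm hsC hx
    obtain ⟨w, hw⟩ : ∃ w, w = s * x * s⁻¹ * x := ⟨_, rfl⟩
    have hwK : w ∈ K := by rw [hw]; exact mul_mem hsx hx
    have hsw : s * w = w * s := by
      have e1 : s * w * s⁻¹ = (s * s) * x * (s⁻¹ * s⁻¹) * (s * x * s⁻¹) := by rw [hw]; group
      rw [hsinv, hss, one_mul, mul_one] at e1
      have e2 : x * (s * x * s) = w := by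
        rw [hw, hsinv]
        rw [hsinv] at hsx
        exact hc.K_comm hx hsx
      rw [e2] at e1
      calc s * w = (s * w * s) * s := by rw [mul_assoc (s * w), hss, mul_one]
        _ = w * s := by rw [e1]
    have hwm : w ^ m = 1 := by
      have hcm : Commute (s * x * s⁻¹) x := hc.K_comm hsx hx
      rw [hw, hcm.mul_pow, conj_pow, hinv2 (x ^ m) (pow_mem hx m)]
      · group
      · have h1 : (x ^ m) ^ (2 ^ a) = 1 := by
          have h2 : x ^ Nat.card K = 1 := by
            have := pow_card_eq_one' (x := (⟨x, hx⟩ : K))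
            exact congrArg Subtype.val this
          rw [← pow_mul, mul_comm, ← hcard, h2]
        obtain ⟨k, -, hk⟩ := (Nat.dvd_prime_pow Nat.prime_two).1 (orderOf_dvd_of_pow_eq_one h1)
        exact ⟨k, hk⟩
    have hwo : Odd (orderOf w) := by
      rw [← Nat.not_even_iff_odd, even_iff_two_dvd]
      intro h1
      exact hm (h1.trans (orderOf_dvd_of_pow_eq_one hwm))
    have hw1 := h.odd_part hsC hsK hss hwK hsw hwo
    rw [hw] at hw1
    exact eq_inv_of_mul_eq_one_left hw1
  have hns : ∀ x ∈ K, x * x ≠ 1 → centralizer ({x} : Set X) = K := by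
    intro x hx hxx
    rcases h.cent x hx (fun h1 => hxx (by rw [h1, one_mul])) with h1 | h1
    · exact h1
    · exfalso
      have h2 : s ∈ centralizer ({x} : Set X) := by rw [h1]; exact hsC
      rw [mem_centralizer_singleton_iff] at h2
      have h3 := hinv x hx
      rw [h2, mul_assoc, mul_inv_cancel, mul_one] at h3
      apply hxx
      nth_rewrite 1 [h3]
      group
  have hst : s * t = t * s := mem_centralizer_singleton_iff.1 hsC
  have hord : ∀ z : X, orderOf z = 2 → z * z = 1 ∧ z ≠ 1 := by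
    intro z hz
    refine ⟨by rw [← sq, ← hz, pow_orderOf_eq_one], ?_⟩
    rintro rfl
    rw [orderOf_one] at hz
    omega
  apply H11.BSW.Main.psl t hc.t_ord K
  · exact ⟨⟨fun a b => Subtype.ext (hc.K_comm a.2 b.2)⟩⟩
  · exact hc.KH
  · exact hc.tK
  · exact orderOf_eq_prime (p := 2) (by rw [sq]; exact hss) hs1
  · exact hsC
  · exact hsK
  · apply le_antisymm
    · exact sup_le hc.KH (by rwa [zpowers_le])
    · intro b hb
      rcases hc.mem_or hsC hsK hb with h1 | h1
      · exact mem_sup_left h1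
      · have h2 : b = s * (s * b) := by rw [← mul_assoc, hss, one_mul]
        rw [h2]
        exact mul_mem (mem_sup_right (mem_zpowers s)) (mem_sup_left h1)
  · apply le_antisymm
    · intro y hy
      obtain ⟨hyK, hyC⟩ := mem_inf.1 hy
      rw [mem_centralizer_singleton_iff] at hyC
      have h3 := hinv y hyK
      rw [← hyC, mul_assoc, mul_inv_cancel, mul_one] at h3
      have h4 : y * y = 1 := by nth_rewrite 1 [h3]; group
      by_cases hy1 : y = 1
      · rw [hy1]; exact one_mem _
      · rw [unique_inv hc.cyc hc.tK hyK hc.tt h4 hc.t1 hy1]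
        exact mem_zpowers t
    · rw [zpowers_le]
      refine mem_inf.2 ⟨hc.tK, ?_⟩
      rw [mem_centralizer_singleton_iff]
      exact hst.symm
  · exact hinv
  · intro g hg
    rw [eq_bot_iff]
    intro x hx
    rw [mem_bot]
    by_contra hx1
    obtain ⟨hxK, y, hyK, hyx⟩ := mem_inf.1 hx
    have hyx' : g * y * g⁻¹ = x := hyx
    have hgt : g * t * g⁻¹ ≠ t := by
      intro h1
      apply hg
      rw [mem_centralizer_singleton_iff]
      calc g * t = (g * t * g⁻¹) * g := by group
        _ = t * g := by rw [h1]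
    by_cases hxx : x * x = 1
    · have h1 := unique_inv hc.cyc hc.tK hxK hc.tt hxx hc.t1 hx1
      have hyy : y * y = 1 := by
        have : y = g⁻¹ * x * g := by rw [← hyx']; group
        rw [this]
        calc g⁻¹ * x * g * (g⁻¹ * x * g) = g⁻¹ * (x * x) * g := by group
          _ = 1 := by rw [hxx]; group
      have hy1 : y ≠ 1 := by
        rintro rfl
        apply hx1
        rw [← hyx']; group
      have h2 := unique_inv hc.cyc hc.tK hyK hc.tt hyy hc.t1 hy1
      rw [h1, h2] at hyx'
      exact hgt hyx'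
    · have hyy : y * y ≠ 1 := by
        intro h1
        apply hxx
        rw [← hyx']
        calc g * y * g⁻¹ * (g * y * g⁻¹) = g * (y * y) * g⁻¹ := by group
          _ = 1 := by rw [h1]; group
      have h1 := hns x hxK hxx
      have h2 := hns y hyK hyy
      have h3 : g * t * g⁻¹ ∈ K := by
        rw [← h1, ← hyx', mem_cent_conj, h2]
        have : g⁻¹ * (g * t * g⁻¹) * g = t := by group
        rw [this]
        exact hc.tK
      apply hgt
      apply unique_inv hc.cyc hc.tK h3 hc.tt _ hc.t1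
      · intro h7
        apply hc.t1
        calc t = g⁻¹ * (g * t * g⁻¹) * g := by group
          _ = 1 := by rw [h7]; group
      · calc (g * t * g⁻¹) * (g * t * g⁻¹) = g * (t * t) * g⁻¹ := by group
          _ = 1 := by rw [hc.tt]; group
  · intro x y hx hy
    obtain ⟨hx2, hx1⟩ := hord x hx
    obtain ⟨hy2, hy1⟩ := hord y hy
    exact (hconj x hx2 hx1).symm.trans (hconj y hy2 hy1)

end H2.Rec
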