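import Cfsg.Agent.Lib.H2.Rec.Psl
import Cfsg.Agent.Lib.H1.FrobSyl

set_option autoImplicit false

/-! Groups with the order and the element orders of `PSL(2, q)`, `q` odd: arithmetic. -/

namespace H2.Rec

open Subgroup Cfsg

/-- order and spectrum of `PSL(2, q)`, `q` odd -/
structure SHyp (G : Type*) [Group G] [Finite G] (p q κ b : ℕ) : Prop where
  hp : p.Prime
  p2 : p ≠ 2
  hq : ∀ r : ℕ, r.Prime → r ∣ q → r = p
  pq : p ∣ q
  q3 : 3 < q
  cases : (2 * κ + 1 = q ∧ 2 * b = q + 1) ∨ (2 * κ = q + 1 ∧ 2 * b + 1 = q)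
  κeven : 2 ∣ κ
  bodd : ¬ 2 ∣ b
  card : Nat.card G = 2 * κ * (b * q)
  spec : ∀ g : G, orderOf g ∣ p ∨ orderOf g ∣ κ ∨ orderOf g ∣ b
  ex : ∃ g : G, orderOf g = κ

variable {G : Type*} [Group G] [Finite G] {p q κ b : ℕ}

namespace SHyp

theorem κpos (h : SHyp G p q κ b) : 0 < κ := by
  have := h.q3
  rcases h.cases with h1 | h1 <;> omega

theorem b3 (h : SHyp G p q κ b) : 3 ≤ b := by
  have h1 := h.q3
  have h2 := h.bodd
  rcases h.cases with h3 | h3 <;> omega

theorem not_κb (h : SHyp G p q κ b) {r : ℕ} (hr : r.Prime) (h1 : r ∣ 2 * κ) (h2 : r ∣ b) : False := by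
  have hr2 : r ≠ 2 := by
    rintro rfl
    exact h.bodd h2
  have h3 : r ∣ 2 * b := h2.mul_left 2
  have h4 : r ∣ 2 := by
    rcases h.cases with ⟨h5, h6⟩ | ⟨h5, h6⟩
    · have : 2 * b = 2 * κ + 2 := by omega
      rw [this] at h3
      exact (Nat.dvd_add_right h1).1 h3
    · have : 2 * κ = 2 * b + 2 := by omega
      rw [this] at h1
      exact (Nat.dvd_add_right h3).1 h1
  exact hr2 ((Nat.prime_dvd_prime_iff_eq hr Nat.prime_two).1 h4)

theorem not_κq (h : SHyp G p q κ b) {r : ℕ} (hr : r.Prime) (h1 : r ∣ 2 * κ) (h2 : r ∣ q) : False := by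
  have h4 : r ∣ 1 := by
    rcases h.cases with ⟨h5, h6⟩ | ⟨h5, h6⟩
    · rw [← h5] at h2
      exact (Nat.dvd_add_right h1).1 h2
    · rw [h5] at h1
      exact (Nat.dvd_add_right h2).1 h1
  exact hr.one_lt.ne' (Nat.dvd_one.1 h4)

theorem not_bq (h : SHyp G p q κ b) {r : ℕ} (hr : r.Prime) (h1 : r ∣ b) (h2 : r ∣ q) : False := by
  have h3 : r ∣ 2 * b := h1.mul_left 2
  have h4 : r ∣ 1 := by
    rcases h.cases with ⟨h5, h6⟩ | ⟨h5, h6⟩
    · rw [h6] at h3
      exact (Nat.dvd_add_right h2).1 h3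
    · rw [← h6] at h2
      exact (Nat.dvd_add_right h3).1 h2
  exact hr.one_lt.ne' (Nat.dvd_one.1 h4)

theorem prime_cases (h : SHyp G p q κ b) {r : ℕ} (hr : r.Prime) (h1 : r ∣ Nat.card G) :
    r ∣ 2 * κ ∨ r ∣ b ∨ r ∣ q := by
  rw [h.card] at h1
  rcases (Nat.Prime.dvd_mul hr).1 h1 with h2 | h2
  · exact Or.inl h2
  · exact Or.inr ((Nat.Prime.dvd_mul hr).1 h2)

/-- component of the prime graph -/
theorem of_mul (h : SHyp G p q κ b) {r l : ℕ} (hr : r.Prime) (hl : l.Prime) (hne : r ≠ l)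
    {g : G} (hg : orderOf g = r * l) : (r ∣ κ ∧ l ∣ κ) ∨ (r ∣ b ∧ l ∣ b) := by
  rcases h.spec g with h1 | h1 | h1
  · exfalso
    rw [hg] at h1
    have h2 := (Nat.prime_dvd_prime_iff_eq hr h.hp).1 ((dvd_mul_right r l).trans h1)
    have h3 := (Nat.prime_dvd_prime_iff_eq hl h.hp).1 ((dvd_mul_left l r).trans h1)
    exact hne (h2.trans h3.symm)
  · rw [hg] at h1
    exact Or.inl ⟨(dvd_mul_right r l).trans h1, (dvd_mul_left l r).trans h1⟩
  · rw [hg] at h1
    exact Or.inr ⟨(dvd_mul_right r l).trans h1, (dvd_mul_left l r).trans h1⟩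

theorem two_κ (h : SHyp G p q κ b) {r : ℕ} (hr : r.Prime) (h1 : r ∣ 2 * κ) : r ∣ κ := by
  rcases (Nat.Prime.dvd_mul hr).1 h1 with h2 | h2
  · rw [(Nat.prime_dvd_prime_iff_eq hr Nat.prime_two).1 h2]
    exact h.κeven
  · exact h2

/-- commuting elements of distinct prime orders -/
theorem of_comm (h : SHyp G p q κ b) {r l : ℕ} (hr : r.Prime) (hl : l.Prime) (hne : r ≠ l)
    {x y : G} (hx : orderOf x = r) (hy : orderOf y = l) (hxy : x * y = y * x) :
    (r ∣ κ ∧ l ∣ κ) ∨ (r ∣ b ∧ l ∣ b) := by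
  apply h.of_mul hr hl hne (g := x * y)
  rw [(show Commute x y from hxy).orderOf_mul_eq_mul_orderOf_of_coprime, hx, hy]
  rw [hx, hy]
  exact (Nat.coprime_primes hr hl).2 hne

/-- centralizers of `κ`-elements -/
theorem card_cent_dvd (h : SHyp G p q κ b) {x : G} (hx : orderOf x ∣ κ) (hx1 : x ≠ 1) :
    Nat.card (centralizer ({x} : Set G)) ∣ 2 * κ := by
  have h1 : Nat.card (centralizer ({x} : Set G)) ∣ 2 * κ * (b * q) := by
    rw [← h.card]; exact card_subgroup_dvd_card _
  refine Nat.Coprime.dvd_of_dvd_mul_right ?_ h1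
  apply Nat.Coprime.symm
  apply Nat.coprime_of_dvd
  intro r hr hr1 hr2
  have hrf : Fact r.Prime := ⟨hr⟩
  obtain ⟨y, hy⟩ := exists_prime_orderOf_dvd_card' r hr2
  obtain ⟨l, hl, hld⟩ := Nat.exists_prime_and_dvd (n := orderOf x) (by rwa [Ne, orderOf_eq_one_iff])
  have hlκ : l ∣ κ := hld.trans hx
  have hlκ2 : l ∣ 2 * κ := hlκ.mul_left 2
  have hxl : orderOf (x ^ (orderOf x / l)) = l := orderOf_pow_orderOf_div (orderOf_pos x).ne' hld
  have hne : l ≠ r := by
    rintro rfl
    rcases (Nat.Prime.dvd_mul hr).1 hr1 with h2 | h2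
    · exact h.not_κb hr hlκ2 h2
    · exact h.not_κq hr hlκ2 h2
  have hyx : (y : G) * x = x * y := mem_centralizer_singleton_iff.1 y.2
  have hy' : orderOf (y : G) = r := by rw [Subgroup.orderOf_coe, hy]
  have h3 := h.of_comm hl hr hne hxl hy' ((show Commute (y : G) x from hyx).pow_right _).eq.symm
  have hrκ : r ∣ κ := by
    rcases h3 with h4 | h4
    · exact h4.2
    · exact absurd h4.1 (fun h5 => h.not_κb hl hlκ2 h5)
  rcases (Nat.Prime.dvd_mul hr).1 hr1 with h2 | h2
  · exact h.not_κb hr (hrκ.mul_left 2) h2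
  · exact h.not_κq hr (hrκ.mul_left 2) h2

/-- normal `r`-subgroups: divisibility -/
theorem dvd_sub_one {N : Subgroup G} [N.Normal] {r m : ℕ} (hr : r.Prime) (hN : IsPGroup r N)
    (hm : ∀ l : ℕ, l.Prime → l ∣ m → l ≠ r ∧ ∀ x y : G, orderOf x = l → orderOf y = r → x * y ≠ y * x)
    (hmG : m ∣ Nat.card G) : m ∣ Nat.card N - 1 := by
  have hrf : Fact r.Prime := ⟨hr⟩
  rw [Nat.dvd_iff_prime_pow_dvd_dvd]
  intro l j hl hlj
  rcases Nat.eq_zero_or_pos j with rfl | hj
  · simp
  have hlf : Fact l.Prime := ⟨hl⟩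
  obtain ⟨L, hL⟩ := Sylow.exists_subgroup_card_pow_prime l (hlj.trans hmG)
  rw [← hL]
  have hlm : l ∣ m := (dvd_pow_self l hj.ne').trans hlj
  obtain ⟨hlr, hcomm⟩ := hm l hl hlm
  apply H1.FrobSyl.card_dvd_sub_one
  · intro g _
    rw [normalizer_eq_top]
    trivial
  · intro a ha ha1
    rw [eq_bot_iff]
    intro n hn
    rw [mem_bot]
    obtain ⟨hnN, hnC⟩ := mem_inf.1 hn
    rw [mem_centralizer_singleton_iff] at hnC
    by_contra hn1
    -- powers of prime order
    have hLp : IsPGroup l L := IsPGroup.of_card hL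
    obtain ⟨i, hi⟩ := IsPGroup.iff_orderOf.1 hLp ⟨a, ha⟩
    rw [Subgroup.orderOf_mk] at hi
    have hi0 : i ≠ 0 := by
      rintro rfl
      rw [pow_zero, orderOf_eq_one_iff] at hi
      exact ha1 hi
    obtain ⟨k, hk⟩ := IsPGroup.iff_orderOf.1 hN ⟨n, hnN⟩
    rw [Subgroup.orderOf_mk] at hk
    have hk0 : k ≠ 0 := by
      rintro rfl
      rw [pow_zero, orderOf_eq_one_iff] at hk
      exact hn1 hk
    have hla : l ∣ orderOf a := by rw [hi]; exact dvd_pow_self l hi0
    have hrn : r ∣ orderOf n := by rw [hk]; exact dvd_pow_self r hk0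
    refine hcomm _ _ (orderOf_pow_orderOf_div (orderOf_pos a).ne' hla)
      (orderOf_pow_orderOf_div (orderOf_pos n).ne' hrn) ?_
    exact ((show Commute a n from hnC.symm).pow_pow _ _).eq

/-- no nontrivial normal `r`-subgroups -/
theorem no_normal (h : SHyp G p q κ b) {N : Subgroup G} [N.Normal] {r : ℕ} (hr : r.Prime)
    (hN : IsPGroup r N) : N = ⊥ := by
  by_contra hne
  have hrf : Fact r.Prime := ⟨hr⟩
  obtain ⟨k, hk⟩ := IsPGroup.iff_card.1 hN
  have hk0 : k ≠ 0 := by
    rintro rfl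
    rw [pow_zero] at hk
    exact hne (card_eq_one.1 hk)
  have hrN : r ∣ Nat.card N := by rw [hk]; exact dvd_pow_self r hk0
  have hNG : Nat.card N ∣ Nat.card G := card_subgroup_dvd_card N
  have hN1 : 1 < Nat.card N := by
    rw [hk]
    exact Nat.one_lt_pow hk0 hr.one_lt
  have hq3 := h.q3
  have hb3 := h.b3
  have hκ := h.κpos
  rcases h.prime_cases hr (hrN.trans hNG) with h1 | h1 | h1
  · -- `r ∣ κ`
    have h2 : b * q ∣ Nat.card N - 1 := by
      apply dvd_sub_one hr hN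
      · intro l hl hlm
        have hlr : l ≠ r := by
          rintro rfl
          rcases (Nat.Prime.dvd_mul hl).1 hlm with h3 | h3
          · exact h.not_κb hl h1 h3
          · exact h.not_κq hl h1 h3
        refine ⟨hlr, fun x y hx hy hxy => ?_⟩
        rcases h.of_comm hl hr hlr hx hy hxy with h3 | h3
        · rcases (Nat.Prime.dvd_mul hl).1 hlm with h4 | h4
          · exact h.not_κb hl (h3.1.mul_left 2) h4
          · exact h.not_κq hl (h3.1.mul_left 2) h4
        · exact h.not_κb hr h1 h3.2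
      · rw [h.card]; exact dvd_mul_left _ _
    have h3 : Nat.card N ∣ 2 * κ := by
      rw [h.card] at hNG
      refine Nat.Coprime.dvd_of_dvd_mul_right ?_ hNG
      rw [hk]
      apply Nat.Coprime.pow_left
      rw [Nat.Prime.coprime_iff_not_dvd hr]
      intro h4
      rcases (Nat.Prime.dvd_mul hr).1 h4 with h5 | h5
      · exact h.not_κb hr h1 h5
      · exact h.not_κq hr h1 h5
    have h4 := Nat.le_of_dvd (by omega) h2
    have h5 := Nat.le_of_dvd (by omega) h3
    have h6 : 3 * q ≤ b * q := Nat.mul_le_mul_right q hb3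
    rcases h.cases with h7 | h7 <;> omega
  · -- `r ∣ b`
    have h2 : 2 * κ * q ∣ Nat.card N - 1 := by
      apply dvd_sub_one hr hN
      · intro l hl hlm
        have hlr : l ≠ r := by
          rintro rfl
          rcases (Nat.Prime.dvd_mul hl).1 hlm with h3 | h3
          · exact h.not_κb hl h3 h1
          · exact h.not_bq hl h1 h3
        refine ⟨hlr, fun x y hx hy hxy => ?_⟩
        rcases h.of_comm hl hr hlr hx hy hxy with h3 | h3
        · exact h.not_κb hr (h3.2.mul_left 2) h1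
        · rcases (Nat.Prime.dvd_mul hl).1 hlm with h4 | h4
          · exact h.not_κb hl h4 h3.1
          · exact h.not_bq hl h3.1 h4
      · rw [h.card]; exact ⟨b, by ring⟩
    have h3 : Nat.card N ∣ b := by
      rw [h.card] at hNG
      have e1 : 2 * κ * (b * q) = b * (2 * κ * q) := by ring
      rw [e1] at hNG
      refine Nat.Coprime.dvd_of_dvd_mul_right ?_ hNG
      rw [hk]
      apply Nat.Coprime.pow_left
      rw [Nat.Prime.coprime_iff_not_dvd hr]
      intro h4
      rcases (Nat.Prime.dvd_mul hr).1 h4 with h5 | h5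
      · exact h.not_κb hr h5 h1
      · exact h.not_bq hr h1 h5
    have h4 := Nat.le_of_dvd (by omega) h2
    have h5 := Nat.le_of_dvd (by omega) h3
    have h6 : 1 * q ≤ 2 * κ * q := Nat.mul_le_mul_right q (by omega)
    rcases h.cases with h7 | h7 <;> omega
  · -- `r = p`
    have h2 : 2 * κ * b ∣ Nat.card N - 1 := by
      apply dvd_sub_one hr hN
      · intro l hl hlm
        have hlr : l ≠ r := by
          rintro rfl
          rcases (Nat.Prime.dvd_mul hl).1 hlm with h3 | h3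
          · exact h.not_κq hl h3 h1
          · exact h.not_bq hl h3 h1
        refine ⟨hlr, fun x y hx hy hxy => ?_⟩
        rcases h.of_comm hl hr hlr hx hy hxy with h3 | h3
        · exact h.not_κq hr (h3.2.mul_left 2) h1
        · exact h.not_bq hr h3.2 h1
      · rw [h.card]; exact ⟨q, by ring⟩
    have h3 : Nat.card N ∣ q := by
      rw [h.card] at hNG
      have e1 : 2 * κ * (b * q) = q * (2 * κ * b) := by ring
      rw [e1] at hNG
      refine Nat.Coprime.dvd_of_dvd_mul_right ?_ hNG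
      rw [hk]
      apply Nat.Coprime.pow_left
      rw [Nat.Prime.coprime_iff_not_dvd hr]
      intro h4
      rcases (Nat.Prime.dvd_mul hr).1 h4 with h5 | h5
      · exact h.not_κq hr h5 h1
      · exact h.not_bq hr h5 h1
    have h4 := Nat.le_of_dvd (by omega) h2
    have h5 := Nat.le_of_dvd (by omega) h3
    have h6 : 2 * κ * 3 ≤ 2 * κ * b := Nat.mul_le_mul_left (2 * κ) hb3
    rcases h.cases with h7 | h7 <;> omega

end SHyp

end H2.Rec
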