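import Cfsg.Agent.Lib.H2.Rec.Spec

set_option autoImplicit false

/-! Groups with the order and the element orders of `PSL(2, q)`, `q` odd: the involution centralizer. -/

namespace H2.Rec

open Subgroup Cfsg

variable {G : Type*} [Group G] [Finite G] {p q κ b : ℕ}

/-- `k` of order `κ` and the involution `t` in `⟨k⟩` -/
structure Tor (p q κ b : ℕ) (k t : G) : Prop extends SHyp G p q κ b where
  ko : orderOf k = κ
  tk : t = k ^ (κ / 2)

variable {k t : G}

namespace Tor

theorem t_ord (h : Tor p q κ b k t) : orderOf t = 2 := by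
  have hκ := h.κpos
  obtain ⟨c, hc⟩ := h.κeven
  rw [h.tk]
  have h1 : κ / 2 = orderOf k / 2 := by rw [h.ko]
  rw [h1]
  apply orderOf_pow_orderOf_div (orderOf_pos k).ne'
  rw [h.ko]; exact h.κeven

theorem tt (h : Tor p q κ b k t) : t * t = 1 := by
  rw [← sq, ← h.t_ord, pow_orderOf_eq_one]

theorem t1 (h : Tor p q κ b k t) : t ≠ 1 := by
  intro h1
  have := h.t_ord
  rw [h1, orderOf_one] at this
  omega

theorem tK (h : Tor p q κ b k t) : t ∈ zpowers k := by rw [h.tk]; exact pow_mem (mem_zpowers k) _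

theorem cardK (h : Tor p q κ b k t) : Nat.card (zpowers k) = κ := by rw [Nat.card_zpowers, h.ko]

theorem cycK : IsCyclic (zpowers k) := inferInstance

theorem K_le (x : G) (hx : x ∈ zpowers k) : zpowers k ≤ centralizer ({x} : Set G) := by
  intro y hy
  rw [mem_centralizer_singleton_iff]
  exact cyc_comm (K := zpowers k) inferInstance hy hx

theorem K_comm {x y : G} (hx : x ∈ zpowers k) (hy : y ∈ zpowers k) : x * y = y * x :=
  cyc_comm (K := zpowers k) inferInstance hx hy

theorem uniq (h : Tor p q κ b k t) {z : G} (hz : z ∈ zpowers k) (hzz : z * z = 1) (hz1 : z ≠ 1) : z = t :=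
  unique_inv (K := zpowers k) inferInstance h.tK hz h.tt hzz h.t1 hz1

theorem card_dvd (h : Tor p q κ b k t) {x : G} (hx : x ∈ zpowers k) (hx1 : x ≠ 1) :
    Nat.card (centralizer ({x} : Set G)) ∣ 2 * κ := by
  apply h.card_cent_dvd _ hx1
  rw [← h.ko]
  exact orderOf_dvd_of_mem_zpowers hx

/-- overgroups of index two of `K` lie in `C(t)` -/
theorem over_le (h : Tor p q κ b k t) {Y : Subgroup G} (hY : zpowers k ≤ Y) (hc : Nat.card Y = 2 * κ) :
    Y ≤ centralizer ({t} : Set G) := by
  have h1 : (zpowers k).relIndex Y = 2 := by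
    have h3 : Nat.card ((zpowers k).subgroupOf Y) = κ := by
      rw [← h.cardK]
      exact Nat.card_congr (subgroupOfEquivOfLe hY).toEquiv
    have h4 := (zpowers k).subgroupOf Y |>.index_mul_card
    rw [h3, hc] at h4
    exact Nat.eq_of_mul_eq_mul_right h.κpos h4
  have hn : ((zpowers k).subgroupOf Y).Normal := Subgroup.normal_of_index_eq_two h1
  intro g hg
  have h2 := hn.conj_mem ⟨t, hY h.tK⟩ h.tK ⟨g, hg⟩
  have h3 : g * t * g⁻¹ ∈ zpowers k := h2
  have h4 : g * t * g⁻¹ = t := by
    apply h.uniq h3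
    · calc (g * t * g⁻¹) * (g * t * g⁻¹) = g * (t * t) * g⁻¹ := by group
        _ = 1 := by rw [h.tt]; group
    · intro h5
      apply h.t1
      calc t = g⁻¹ * (g * t * g⁻¹) * g := by group
        _ = 1 := by rw [h5]; group
  rw [mem_centralizer_singleton_iff]
  calc g * t = (g * t * g⁻¹) * g := by group
    _ = t * g := by rw [h4]

theorem card_cases (h : Tor p q κ b k t) {x : G} (hx : x ∈ zpowers k) (hx1 : x ≠ 1) :
    centralizer ({x} : Set G) = zpowers k ∨ Nat.card (centralizer ({x} : Set G)) = 2 * κ := by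
  have h1 := h.card_dvd hx hx1
  have h2 := card_dvd_of_le (K_le x hx)
  rw [h.cardK] at h2
  obtain ⟨c, hc⟩ := h2
  rw [hc, mul_comm 2 κ] at h1
  have h3 := Nat.dvd_of_mul_dvd_mul_left h.κpos h1
  rcases (Nat.dvd_prime Nat.prime_two).1 h3 with h4 | h4
  · left
    symm
    apply eq_of_le_of_card_ge (K_le x hx)
    rw [hc, h4, h.cardK, mul_one]
  · right
    rw [hc, h4, mul_comm]

/-- the involution centralizer -/
theorem card_C (h : Tor p q κ b k t) : Nat.card (centralizer ({t} : Set G)) = 2 * κ := by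
  rcases h.card_cases h.tK h.t1 with h1 | h1
  · exfalso
    have h2f : Fact (Nat.Prime 2) := ⟨Nat.prime_two⟩
    obtain ⟨a, m, hm, hκ⟩ := Nat.exists_eq_pow_mul_and_not_dvd h.κpos.ne' 2 (by norm_num)
    have hm0 : m ≠ 0 := by rintro rfl; exact hm (dvd_zero 2)
    -- the Sylow 2-subgroup of `K`
    have hu : orderOf (k ^ m) = 2 ^ a := by
      rw [orderOf_pow' k hm0, h.ko, hκ, Nat.gcd_eq_right (dvd_mul_left m _)]
      exact Nat.mul_div_cancel _ (Nat.pos_of_ne_zero hm0)
    have h2 : IsPGroup 2 (zpowers (k ^ m)) := by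
      apply IsPGroup.of_card (n := a)
      rw [Nat.card_zpowers, hu]
    obtain ⟨P, hP⟩ := h2.exists_le_sylow
    have hPc : Nat.card (P : Subgroup G) = 2 ^ (a + 1) := by
      rw [P.card_eq_multiplicity, h.card, hκ]
      congr 1
      have e1 : 2 * (2 ^ a * m) * (b * q) = 2 ^ (a + 1) * (m * (b * q)) := by ring
      rw [e1]
      have hq2 : ¬ 2 ∣ q := fun h3 => h.p2 (h.hq 2 Nat.prime_two h3).symm
      have hodd : ¬ 2 ∣ m * (b * q) := by
        intro h3
        rcases (Nat.Prime.dvd_mul Nat.prime_two).1 h3 with h4 | h4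
        · exact hm h4
        · rcases (Nat.Prime.dvd_mul Nat.prime_two).1 h4 with h5 | h5
          · exact h.bodd h5
          · exact hq2 h5
      have hb := h.b3
      have hq := h.q3
      rw [Nat.factorization_mul (by positivity) (by positivity), Nat.Prime.factorization_pow Nat.prime_two]
      simp [Nat.factorization_eq_zero_of_not_dvd hodd]
    have ha : 1 ≤ a := by
      by_contra h3
      have : a = 0 := by omega
      subst this
      apply hm
      have := h.κeven
      rwa [hκ, pow_zero, one_mul] at this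
    have htu : t ∈ zpowers (k ^ m) := by
      have h3 : orderOf ((k ^ m) ^ (2 ^ a / 2)) = 2 := by
        rw [← hu]
        apply orderOf_pow_orderOf_div (orderOf_pos _).ne'
        rw [hu]
        exact dvd_pow_self 2 (by omega)
      have h4 := cyc_unique (K := zpowers k) inferInstance (a := (k ^ m) ^ (2 ^ a / 2)) (b := t)
        (pow_mem (pow_mem (mem_zpowers k) _) _) h.tK (by rw [h3, h.t_ord])
      have h5 : t ∈ zpowers ((k ^ m) ^ (2 ^ a / 2)) := by rw [h4]; exact mem_zpowers t
      have h6 : zpowers ((k ^ m) ^ (2 ^ a / 2)) ≤ zpowers (k ^ m) := by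
        rw [zpowers_le]; exact pow_mem (mem_zpowers _) _
      exact h6 h5
    have h3 : (zpowers (k ^ m)).relIndex (P : Subgroup G) = 2 := by
      have h4 : Nat.card ((zpowers (k ^ m)).subgroupOf (P : Subgroup G)) = 2 ^ a := by
        rw [← hu, ← Nat.card_zpowers]
        exact Nat.card_congr (subgroupOfEquivOfLe hP).toEquiv
      have h5 := (zpowers (k ^ m)).subgroupOf (P : Subgroup G) |>.index_mul_card
      rw [h4, hPc, pow_succ'] at h5
      exact Nat.eq_of_mul_eq_mul_right (by positivity) h5
    have hn : ((zpowers (k ^ m)).subgroupOf (P : Subgroup G)).Normal := Subgroup.normal_of_index_eq_two h3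
    have hPC : (P : Subgroup G) ≤ centralizer ({t} : Set G) := by
      intro g hg
      have h5 : g * t * g⁻¹ ∈ zpowers (k ^ m) := hn.conj_mem ⟨t, hP htu⟩ htu ⟨g, hg⟩
      have h6 : g * t * g⁻¹ ∈ zpowers k := by
        have : zpowers (k ^ m) ≤ zpowers k := by rw [zpowers_le]; exact pow_mem (mem_zpowers _) _
        exact this h5
      have h4 : g * t * g⁻¹ = t := by
        apply h.uniq h6
        · calc (g * t * g⁻¹) * (g * t * g⁻¹) = g * (t * t) * g⁻¹ := by group
            _ = 1 := by rw [h.tt]; group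
        · intro h5
          apply h.t1
          calc t = g⁻¹ * (g * t * g⁻¹) * g := by group
            _ = 1 := by rw [h5]; group
      rw [mem_centralizer_singleton_iff]
      calc g * t = (g * t * g⁻¹) * g := by group
        _ = t * g := by rw [h4]
    have h5 := card_dvd_of_le hPC
    rw [h1, h.cardK, hPc, hκ, pow_succ] at h5
    exact hm (Nat.dvd_of_mul_dvd_mul_left (by positivity) h5)
  · exact h1

theorem cent_cases (h : Tor p q κ b k t) {x : G} (hx : x ∈ zpowers k) (hx1 : x ≠ 1) :
    centralizer ({x} : Set G) = zpowers k ∨ centralizer ({x} : Set G) = centralizer ({t} : Set G) := by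
  rcases h.card_cases hx hx1 with h1 | h1
  · exact Or.inl h1
  · right
    apply eq_of_le_of_card_ge (h.over_le (K_le x hx) h1)
    rw [h.card_C, h1]

theorem K_leC (h : Tor p q κ b k t) : zpowers k ≤ centralizer ({t} : Set G) := K_le t h.tK

theorem relIndexK (h : Tor p q κ b k t) : (zpowers k).relIndex (centralizer ({t} : Set G)) = 2 := by
  have h3 : Nat.card ((zpowers k).subgroupOf (centralizer ({t} : Set G))) = κ := by
    rw [← h.cardK]
    exact Nat.card_congr (subgroupOfEquivOfLe h.K_leC).toEquiv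
  have h4 := (zpowers k).subgroupOf (centralizer ({t} : Set G)) |>.index_mul_card
  rw [h3, h.card_C] at h4
  exact Nat.eq_of_mul_eq_mul_right h.κpos h4

theorem index_C (h : Tor p q κ b k t) : (centralizer ({t} : Set G)).index = b * q := by
  have h1 := (centralizer ({t} : Set G)).index_mul_card
  rw [h.card_C, h.card, mul_comm (2 * κ)] at h1
  exact Nat.eq_of_mul_eq_mul_right (by have := h.κpos; omega) h1

theorem index_K (h : Tor p q κ b k t) : (zpowers k).index = 2 * (b * q) := by
  have h1 := (zpowers k).index_mul_card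
  rw [h.cardK, h.card] at h1
  apply Nat.eq_of_mul_eq_mul_right h.κpos
  rw [h1]; ring

theorem odd_index (h : Tor p q κ b k t) : ¬ 2 ∣ (centralizer ({t} : Set G)).index := by
  rw [h.index_C]
  intro h1
  rcases (Nat.Prime.dvd_mul Nat.prime_two).1 h1 with h2 | h2
  · exact h.bodd h2
  · exact h.p2 (h.hq 2 Nat.prime_two h2).symm

theorem index_K_ndvd (h : Tor p q κ b k t) {r : ℕ} (hr : r.Prime) (hr2 : r ≠ 2) (hrκ : r ∣ κ) :
    ¬ r ∣ (zpowers k).index := by
  rw [h.index_K]
  intro h1
  rcases (Nat.Prime.dvd_mul hr).1 h1 with h2 | h2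
  · exact hr2 ((Nat.prime_dvd_prime_iff_eq hr Nat.prime_two).1 h2)
  · rcases (Nat.Prime.dvd_mul hr).1 h2 with h3 | h3
    · exact h.not_κb hr (hrκ.mul_left 2) h3
    · exact h.not_κq hr (hrκ.mul_left 2) h3

end Tor

end H2.Rec
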