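import Cfsg.Agent.Lib.H2.Rec.Spec2
import Cfsg.Agent.Lib.H1.Cores

set_option autoImplicit false

/-! Groups with the order and the element orders of `PSL(2, q)`, `q` odd: the minimal normal subgroup. -/

namespace H2.Rec

open Subgroup Cfsg

variable {G : Type*} [Group G] [Finite G] {p q κ b : ℕ}

theorem relIndex_dvd_index_of_normal' (H N : Subgroup G) [N.Normal] : H.relIndex N ∣ H.index := by
  have h4 : H.relIndex N = H.relIndex (H ⊔ N) := by
    have h5 : (H ⊓ N).relIndex N * N.relIndex (H ⊔ N) = (H ⊓ N).relIndex (H ⊔ N) :=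
      relIndex_mul_relIndex _ _ _ inf_le_right le_sup_right
    have h6 : (H ⊓ N).relIndex H * H.relIndex (H ⊔ N) = (H ⊓ N).relIndex (H ⊔ N) :=
      relIndex_mul_relIndex _ _ _ inf_le_left le_sup_left
    rw [relIndex_sup_right, inf_relIndex_right] at h5
    rw [inf_relIndex_left] at h6
    have h7 : N.relIndex H ≠ 0 := (index_ne_zero_of_finite : (N.subgroupOf H).index ≠ 0)
    have h8 : N.relIndex H * H.relIndex N = N.relIndex H * H.relIndex (H ⊔ N) := by
      rw [h6, ← h5, mul_comm]
    exact Nat.eq_of_mul_eq_mul_left (Nat.pos_of_ne_zero h7) h8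
  rw [h4]
  exact relIndex_dvd_index_of_le le_sup_left

theorem cent_subgroupOf {N : Subgroup G} (x : N) :
    centralizer ({x} : Set N) = (centralizer ({(x : G)} : Set G)).subgroupOf N := by
  ext y
  rw [mem_subgroupOf, mem_centralizer_singleton_iff, mem_centralizer_singleton_iff]
  constructor
  · intro h
    exact congrArg Subtype.val h
  · intro h
    exact Subtype.ext h

/-- perfect finite groups are generated by their `p'`-elements -/
theorem residual_of_perfect {X : Type*} [Group X] [Finite X] (hX : commutator X = ⊤) {r : ℕ} (hr : r.Prime) :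
    pResidual r X = ⊤ := by
  have hrf : Fact r.Prime := ⟨hr⟩
  by_contra hne
  have hn : (pResidual r X).Normal := by
    constructor
    intro n hn g
    have h1 : (pResidual r X).map (MulAut.conj g).toMonoidHom ≤ pResidual r X := by
      conv_lhs => rw [pResidual]
      rw [MonoidHom.map_closure, closure_le]
      rintro _ ⟨x, hx, rfl⟩
      apply H2.Residual.mem_residual_of_coprime
      have : orderOf ((MulAut.conj g).toMonoidHom x) = orderOf x :=
        orderOf_injective (MulAut.conj g).toMonoidHom (MulAut.conj g).injective x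
      rw [this]
      exact hx
    exact h1 ⟨n, hn, rfl⟩
  have h1 := H2.Residual.isPGroup_quotient_residual (G := X) (p := r)
  have h2 : Group.IsNilpotent (X ⧸ pResidual r X) := h1.isNilpotent
  have h3 : Nontrivial (X ⧸ pResidual r X) := QuotientGroup.nontrivial_iff.2 hne
  have h4 : commutator (X ⧸ pResidual r X) ≠ ⊤ := by
    intro h5
    have h6 : Group.IsSolvable (X ⧸ pResidual r X) := inferInstance
    exact (Group.IsSolvable.commutator_lt_top_of_nontrivial (X ⧸ pResidual r X)).ne h5
  apply h4
  have h5 : (commutator X).map (QuotientGroup.mk' (pResidual r X)) = commutator (X ⧸ pResidual r X) := by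
    rw [_root_.commutator_def, _root_.commutator_def, map_commutator, ← MonoidHom.range_eq_map,
      MonoidHom.range_eq_top.2 (QuotientGroup.mk'_surjective _)]
  rw [← h5, hX, ← MonoidHom.range_eq_map, MonoidHom.range_eq_top.2 (QuotientGroup.mk'_surjective _)]

variable {k t : G}

namespace Tor

/-- elements of odd order of `C(t)` lie in `K` -/
theorem mem_K_of_odd (h : Tor p q κ b k t) {x : G} (hx : x ∈ centralizer ({t} : Set G)) (ho : Odd (orderOf x)) :
    x ∈ zpowers k := by
  have h1 : x * x ∈ zpowers k := by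
    have h5 := Subgroup.mul_self_mem_of_index_two (H := (zpowers k).subgroupOf (centralizer ({t} : Set G)))
      h.relIndexK ⟨x, hx⟩
    exact h5
  obtain ⟨n, hn⟩ := ho
  have h2 : x = ((x * x) ^ n)⁻¹ * 1 := by
    have h3 : x ^ (2 * n + 1) = 1 := by rw [← hn, pow_orderOf_eq_one]
    rw [pow_succ, pow_mul, sq] at h3
    rw [mul_one]
    exact eq_inv_of_mul_eq_one_right h3
  rw [h2, mul_one]
  exact inv_mem (pow_mem h1 n)

/-- perfect normal subgroups have even order -/
theorem even_of_perfect (h : Tor p q κ b k t) (N : Subgroup G) [hN : N.Normal] (hN1 : N ≠ ⊥)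
    (hperf : commutator N = ⊤) : 2 ∣ Nat.card N := by
  by_contra hodd
  have hodd' : ∀ x ∈ N, Odd (orderOf x) := by
    intro x hx
    rw [← Nat.not_even_iff_odd, even_iff_two_dvd]
    intro h2
    apply hodd
    have h3 : orderOf (⟨x, hx⟩ : N) ∣ Nat.card N := orderOf_dvd_natCard _
    rw [Subgroup.orderOf_mk] at h3
    exact h2.trans h3
  by_cases hD : ∀ x ∈ N, x * t = t * x → x = 1
  · -- `t` inverts `N`
    have hφ : MonoidHom.FixedPointFree (MulAut.conjNormal (H := N) t : N ≃* N) := by
      intro x hx
      have h1 := congrArg Subtype.val hx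
      rw [MulAut.conjNormal_apply] at h1
      apply Subtype.ext
      apply hD x x.2
      calc (x : G) * t = (t * x * t⁻¹) * t := by rw [h1]
        _ = t * x := by group
    have h2 : Function.Involutive (MulAut.conjNormal (H := N) t : N ≃* N) := by
      intro x
      apply Subtype.ext
      rw [MulAut.conjNormal_apply, MulAut.conjNormal_apply]
      have h3 : t⁻¹ = t := inv_eq_of_mul_eq_one_right h.tt
      calc t * (t * x * t⁻¹) * t⁻¹ = (t * t) * x * (t⁻¹ * t⁻¹) := by group
        _ = x := by rw [h3, h.tt]; group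
    have h3 : ∀ x y : N, x * y = y * x := fun x y => hφ.commute_all_of_involutive h2 x y
    have h4 : commutator N = ⊥ := by
      rw [_root_.commutator_def, eq_bot_iff, commutator_le]
      intro x _ y _
      rw [mem_bot, commutatorElement_eq_one_iff_mul_comm]
      exact h3 x y
    rw [h4] at hperf
    apply hN1
    rw [eq_bot_iff]
    intro x hx
    have : (⟨x, hx⟩ : N) ∈ (⊥ : Subgroup N) := by rw [hperf]; trivial
    rw [mem_bot] at this ⊢
    exact congrArg Subtype.val this
  · push Not at hD
    obtain ⟨x, hxN, hxt, hx1⟩ := hD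
    have hxC : x ∈ centralizer ({t} : Set G) := mem_centralizer_singleton_iff.2 hxt
    have hxK := h.mem_K_of_odd hxC (hodd' x hxN)
    obtain ⟨r, hr, hrd⟩ := Nat.exists_prime_and_dvd (n := orderOf x) (by rwa [Ne, orderOf_eq_one_iff])
    have hrf : Fact r.Prime := ⟨hr⟩
    have hr2 : r ≠ 2 := by
      rintro rfl
      exact (Nat.not_even_iff_odd.2 (hodd' x hxN)) (even_iff_two_dvd.2 hrd)
    have hrκ : r ∣ κ := by
      rw [← h.ko]
      exact hrd.trans (orderOf_dvd_of_mem_zpowers hxK)
    have hrN : r ∣ Nat.card N := by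
      have h3 : orderOf (⟨x, hxN⟩ : N) ∣ Nat.card N := orderOf_dvd_natCard _
      rw [Subgroup.orderOf_mk] at h3
      exact hrd.trans h3
    -- a Sylow `r`-subgroup of `N` inside `K`
    have hidx : ¬ r ∣ ((zpowers k).subgroupOf N).index := by
      intro h3
      exact h.index_K_ndvd hr hr2 hrκ (h3.trans (relIndex_dvd_index_of_normal' _ _))
    obtain ⟨R, hRK⟩ : ∃ R : Sylow r N, (R : Subgroup N) ≤ (zpowers k).subgroupOf N := by
      obtain ⟨Q⟩ : Nonempty (Sylow r ((zpowers k).subgroupOf N)) := inferInstance
      have h1 : IsPGroup r ((Q : Subgroup ((zpowers k).subgroupOf N)).map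
          ((zpowers k).subgroupOf N).subtype) := Q.2.map _
      have h2 : ¬ r ∣ ((Q : Subgroup ((zpowers k).subgroupOf N)).map
          ((zpowers k).subgroupOf N).subtype).index := by
        rw [index_map_subtype]
        intro h3
        rcases (Nat.Prime.dvd_mul hr).1 h3 with h4 | h4
        · exact Q.not_dvd_index h4
        · exact hidx h4
      exact ⟨h1.toSylow h2, map_subtype_le _⟩
    have hR1 : (R : Subgroup N) ≠ ⊥ := R.ne_bot_of_dvd_card hrN
    obtain ⟨ρ, hρR, hρ1⟩ : ∃ ρ ∈ (R : Subgroup N), ρ ≠ 1 := by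
      by_contra hcon
      push Not at hcon
      exact hR1 ((eq_bot_iff_forall _).2 hcon)
    have hN' : normalizer ((R : Subgroup N) : Set N) ≤ centralizer ((R : Subgroup N) : Set N) := by
      intro g hg
      obtain ⟨c, hc⟩ : ∃ c : G, c = (g : G) * t * (g : G)⁻¹ * t⁻¹ := ⟨_, rfl⟩
      have hcN : c ∈ N := by
        have : c = (g : G) * (t * (g : G)⁻¹ * t⁻¹) := by rw [hc]; group
        rw [this]
        exact N.mul_mem g.2 (hN.conj_mem _ (N.inv_mem g.2) t)
      have hcρ : c * ρ = ρ * c := by
        have h1 : g⁻¹ * ρ * g ∈ (R : Subgroup N) := (mem_normalizer_iff''.1 hg ρ).1 hρR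
        have h2 : t * (ρ : G) = ρ * t := by
          exact (mem_centralizer_singleton_iff.1 (h.K_leC (hRK hρR))).symm
        have h3 : t * ((g : G)⁻¹ * ρ * g) = ((g : G)⁻¹ * ρ * g) * t := by
          exact (mem_centralizer_singleton_iff.1 (h.K_leC (hRK h1))).symm
        have h4 : t⁻¹ * (ρ : G) = ρ * t⁻¹ := by
          have : (ρ : G) = t * ρ * t⁻¹ := by rw [h2]; group
          calc t⁻¹ * (ρ : G) = t⁻¹ * (t * ρ * t⁻¹) := by rw [← this]
            _ = ρ * t⁻¹ := by group
        calc c * ρ = (g : G) * t * (g : G)⁻¹ * (t⁻¹ * ρ) := by rw [hc]; group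
          _ = (g : G) * (t * ((g : G)⁻¹ * ρ * g)) * (g : G)⁻¹ * t⁻¹ := by rw [h4]; group
          _ = ρ * c := by rw [h3, hc]; group
      have hρK : (ρ : G) ∈ zpowers k := hRK hρR
      have hρ1' : (ρ : G) ≠ 1 := fun h1 => hρ1 (Subtype.ext h1)
      have hcC : c ∈ centralizer ({t} : Set G) := by
        have h1 : c ∈ centralizer ({(ρ : G)} : Set G) := mem_centralizer_singleton_iff.2 hcρ
        rcases h.cent_cases hρK hρ1' with h2 | h2
        · rw [h2] at h1
          exact h.K_leC h1
        · rwa [h2] at h1
      have hct := mem_centralizer_singleton_iff.1 hcC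
      have hgt : (g : G) * t * (g : G)⁻¹ = c * t := by rw [hc]; group
      have hcc : c * c = 1 := by
        have h1 : (c * t) * (c * t) = 1 := by
          rw [← hgt]
          calc (g : G) * t * (g : G)⁻¹ * ((g : G) * t * (g : G)⁻¹) = g * (t * t) * (g : G)⁻¹ := by group
            _ = 1 := by rw [h.tt]; group
        calc c * c = c * (c * t) * t⁻¹ := by group
          _ = (c * (t * c)) * t⁻¹ := by rw [hct]
          _ = (c * t) * (c * t) * t⁻¹ * t⁻¹ := by group
          _ = (t * t)⁻¹ := by rw [h1]; group
          _ = 1 := by rw [h.tt]; group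
      have hc1 : c = 1 := by
        have h1 := hodd' c hcN
        have h2 : orderOf c ∣ 2 := orderOf_dvd_of_pow_eq_one (by rw [sq]; exact hcc)
        rcases (Nat.dvd_prime Nat.prime_two).1 h2 with h3 | h3
        · rwa [orderOf_eq_one_iff] at h3
        · rw [h3] at h1
          exact absurd h1 (by decide)
      rw [hc1, one_mul] at hgt
      have hgC : (g : G) ∈ centralizer ({t} : Set G) := by
        rw [mem_centralizer_singleton_iff]
        calc (g : G) * t = (g * t * (g : G)⁻¹) * g := by group
          _ = t * g := by rw [hgt]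
      have hgK := h.mem_K_of_odd hgC (hodd' g g.2)
      rw [mem_centralizer_iff]
      intro σ hσ
      apply Subtype.ext
      exact K_comm (hRK hσ) hgK
    have hcompl := MonoidHom.ker_transferSylow_isComplement' R hN'
    have hker : (MonoidHom.transferSylow R hN').ker = ⊤ := by
      rw [eq_top_iff, ← residual_of_perfect hperf hr]
      exact H2.Residual.residual_le_ker _ R.2
    have h4 := hcompl.card_mul
    rw [hker, card_top] at h4
    have h5 : Nat.card (R : Subgroup N) = 1 := by
      have := Nat.card_pos (α := N)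
      exact Nat.eq_of_mul_eq_mul_left this (by rw [h4, mul_one])
    exact hR1 (card_eq_one.1 h5)

end Tor

end H2.Rec
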