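import Cfsg.Agent.Lib.H2.Rec.Spec3

set_option autoImplicit false

/-! Groups with the order and the element orders of `PSL(2, q)`, `q` odd: the minimal normal subgroup
is simple and isomorphic to a `PSL(2, q')`. -/

namespace H2.Rec

open Subgroup Cfsg

variable {G : Type*} [Group G] [Finite G] {p q κ b : ℕ} {k t : G}

namespace Tor

theorem t_pow (h : Tor p q κ b k t) {x : G} (hx : x ∈ zpowers k) (hx1 : x ≠ 1) {m : ℕ}
    (hm : orderOf x = 2 ^ m) : t ∈ zpowers x := by
  have hm0 : m ≠ 0 := by
    rintro rfl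
    rw [pow_zero, orderOf_eq_one_iff] at hm
    exact hx1 hm
  have h1 : orderOf (x ^ (orderOf x / 2)) = 2 :=
    orderOf_pow_orderOf_div (orderOf_pos x).ne' (by rw [hm]; exact dvd_pow_self 2 hm0)
  have h2 : x ^ (orderOf x / 2) = t := by
    apply h.uniq (pow_mem hx _)
    · rw [← sq]
      nth_rewrite 2 [← h1]
      exact pow_orderOf_eq_one _
    · intro h3
      rw [h3, orderOf_one] at h1
      omega
  rw [← h2]
  exact pow_mem (mem_zpowers x) _

theorem t_mem (h : Tor p q κ b k t) (N : Subgroup G) [hN : N.Normal] (hN1 : N ≠ ⊥)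
    (hperf : commutator N = ⊤) : t ∈ N := by
  by_contra htN
  have hp : Fact (Nat.Prime 2) := ⟨Nat.prime_two⟩
  have heven := h.even_of_perfect N hN1 hperf
  -- a Sylow subgroup in `C(t)`
  obtain ⟨P, hP⟩ : ∃ P : Sylow 2 G, (P : Subgroup G) ≤ centralizer ({t} : Set G) := by
    obtain ⟨Q⟩ : Nonempty (Sylow 2 (centralizer ({t} : Set G))) := inferInstance
    have h1 : IsPGroup 2 ((Q : Subgroup (centralizer ({t} : Set G))).map
        (centralizer ({t} : Set G)).subtype) := Q.2.map _
    have h2 : ¬ 2 ∣ ((Q : Subgroup (centralizer ({t} : Set G))).map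
        (centralizer ({t} : Set G)).subtype).index := by
      rw [index_map_subtype]
      intro h3
      rcases (Nat.Prime.dvd_mul Nat.prime_two).1 h3 with h4 | h4
      · exact Q.not_dvd_index h4
      · exact h.odd_index h4
    exact ⟨h1.toSylow h2, map_subtype_le _⟩
  obtain ⟨Q, hQ⟩ := H2.Residual.exists_sylow_inf P N
  have hQmem : ∀ x : N, x ∈ (Q : Subgroup N) ↔ (x : G) ∈ (P : Subgroup G) := by
    intro x
    rw [hQ, mem_subgroupOf]
  have hQK : ∀ x ∈ (Q : Subgroup N), (x : G) ∈ zpowers k → x = 1 := by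
    intro x hx hxK
    by_contra hx1
    apply htN
    obtain ⟨m, hm⟩ := IsPGroup.iff_orderOf.1 Q.2 ⟨x, hx⟩
    rw [Subgroup.orderOf_mk, ← Subgroup.orderOf_coe] at hm
    have h1 := h.t_pow hxK (fun h2 => hx1 (Subtype.ext h2)) hm
    have h2 : zpowers (x : G) ≤ N := by rw [zpowers_le]; exact x.2
    exact h2 h1
  have hQ2 : ∀ x ∈ (Q : Subgroup N), ∀ y ∈ (Q : Subgroup N), x ≠ 1 → y ≠ 1 → x = y := by
    intro x hx y hy hx1 hy1
    have hxC := hP ((hQmem x).1 hx)
    have hyC := hP ((hQmem y).1 hy)
    have hxK : (x : G) ∉ zpowers k := fun h1 => hx1 (hQK x hx h1)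
    have hyK : (y : G) ∉ zpowers k := fun h1 => hy1 (hQK y hy h1)
    have h3 := Subgroup.mul_mem_iff_of_index_two (H := (zpowers k).subgroupOf (centralizer ({t} : Set G)))
      h.relIndexK (a := ⟨(x : G)⁻¹, inv_mem hxC⟩) (b := ⟨y, hyC⟩)
    rw [mem_subgroupOf, mem_subgroupOf, mem_subgroupOf] at h3
    have h4 : (x : G)⁻¹ * y ∈ zpowers k := h3.2 ⟨fun h5 => absurd ((inv_mem_iff (H := zpowers k)).1 h5) hxK,
      fun h5 => absurd h5 hyK⟩
    have h5 := hQK (x⁻¹ * y) (mul_mem (inv_mem hx) hy) h4
    exact inv_mul_eq_one.1 h5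
  have hQ1 : (Q : Subgroup N) ≠ ⊥ := Q.ne_bot_of_dvd_card heven
  obtain ⟨z, hz, hz1⟩ : ∃ z ∈ (Q : Subgroup N), z ≠ 1 := by
    by_contra hcon
    push Not at hcon
    exact hQ1 ((eq_bot_iff_forall _).2 hcon)
  have hcard : (⊥ : Subgroup N).relIndex (Q : Subgroup N) = 2 := by
    rw [relIndex_bot_left]
    have h1 : (Q : Subgroup N) = zpowers z := by
      apply le_antisymm
      · intro y hy
        by_cases hy1 : y = 1
        · rw [hy1]; exact one_mem _
        · rw [hQ2 y hy z hz hy1 hz1]; exact mem_zpowers z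
      · rwa [zpowers_le]
    rw [h1, Nat.card_zpowers]
    by_contra h2
    have h3 : z * z ≠ 1 := by
      intro h3
      exact h2 (orderOf_eq_prime (by rw [sq]; exact h3) hz1)
    have h4 := hQ2 (z * z) (mul_mem hz hz) z hz h3 hz1
    exact hz1 (mul_eq_left.1 h4)
  obtain ⟨x, -, hx, y, -, hy, g, hg⟩ := exists_split Q (residual_of_perfect hperf Nat.prime_two) ⊥ hcard
  rw [mem_bot] at hx
  apply hy
  rw [mem_bot, ← hg, hx]
  group

theorem cycN (h : Tor p q κ b k t) (N : Subgroup G) [hN : N.Normal] (hN1 : N ≠ ⊥)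
    (hperf : commutator N = ⊤) (htN : t ∈ N) : Cyc2 (⟨t, htN⟩ : N) ((zpowers k).subgroupOf N) := by
  have hC : centralizer ({(⟨t, htN⟩ : N)} : Set N) = (centralizer ({t} : Set G)).subgroupOf N :=
    cent_subgroupOf ⟨t, htN⟩
  refine { tt := Subtype.ext h.tt, t1 := fun h1 => h.t1 (congrArg Subtype.val h1), cyc := ?_, tK := h.tK,
           KH := ?_, idx := ?_, odd := ?_, res := residual_of_perfect hperf Nat.prime_two, syl := ?_,
           cent := ?_ }
  · have h1 : Function.Injective (fun x : (zpowers k).subgroupOf N => (⟨((x : N) : G), x.2⟩ : zpowers k)) := by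
      intro x y hxy
      apply Subtype.ext
      apply Subtype.ext
      exact congrArg (fun z : zpowers k => (z : G)) hxy
    exact isCyclic_of_injective
      ({ toFun := fun x => (⟨((x : N) : G), x.2⟩ : zpowers k), map_one' := rfl, map_mul' := fun _ _ => rfl } :
        (zpowers k).subgroupOf N →* zpowers k) h1
  · rw [hC]
    intro x hx
    exact h.K_leC hx
  · rw [hC]
    have h1 : ((zpowers k).subgroupOf N).relIndex ((centralizer ({t} : Set G)).subgroupOf N) =
        (zpowers k).relIndex (centralizer ({t} : Set G) ⊓ N) := by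
      rw [subgroupOf, relIndex_comap, subgroupOf_map_subtype]
    rw [h1]
    have h2 : (zpowers k).relIndex (centralizer ({t} : Set G) ⊓ N) ≤
        (zpowers k).relIndex (centralizer ({t} : Set G)) :=
      relIndex_le_of_le_right inf_le_left (by rw [h.relIndexK]; norm_num)
    have h3 : (zpowers k).relIndex (centralizer ({t} : Set G) ⊓ N) ≠ 0 := index_ne_zero_of_finite
    rw [h.relIndexK] at h2
    interval_cases h4 : (zpowers k).relIndex (centralizer ({t} : Set G) ⊓ N)
    · exact absurd rfl h3
    · exact one_dvd 2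
    · exact dvd_refl 2
  · rw [hC]
    intro h1
    exact h.odd_index (h1.trans (relIndex_dvd_index_of_normal' _ _))
  · intro r hr hr2 hrK h1
    refine h.index_K_ndvd hr hr2 ?_ (h1.trans (relIndex_dvd_index_of_normal' _ _))
    rw [← h.cardK]
    refine hrK.trans ?_
    have h2 : Nat.card ((zpowers k).subgroupOf N) = Nat.card (zpowers k ⊓ N : Subgroup G) := by
      rw [← subgroupOf_map_subtype]
      exact (card_map_of_injective (subtype_injective N)).symm
    rw [h2]
    exact card_dvd_of_le inf_le_left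
  · intro x hx hx1
    rw [hC, cent_subgroupOf]
    have hx' : (x : G) ∈ zpowers k := hx
    rcases h.cent_cases hx' (fun h1 => hx1 (Subtype.ext h1)) with h1 | h1
    · left; rw [h1]
    · right; rw [h1]

/-- minimal normal subgroups -/
structure MinNormal (N : Subgroup G) : Prop where
  normal : N.Normal
  ne_bot : N ≠ ⊥
  min : ∀ M : Subgroup G, M.Normal → M ≤ N → M = ⊥ ∨ M = N

theorem exists_minNormal {G : Type*} [Group G] [Finite G] [Nontrivial G] :
    ∃ N : Subgroup G, MinNormal N := by
  obtain ⟨N, hN⟩ := exists_minimal_of_wellFoundedLT (fun N : Subgroup G => N.Normal ∧ N ≠ ⊥)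
    ⟨⊤, inferInstance, top_ne_bot⟩
  refine ⟨N, hN.1.1, hN.1.2, ?_⟩
  intro M hM hMN
  by_cases h1 : M = ⊥
  · exact Or.inl h1
  · exact Or.inr (le_antisymm hMN (hN.2 ⟨hM, h1⟩ hMN))

theorem MinNormal.char {N : Subgroup G} (hN : MinNormal N) (M : Subgroup N) (hM : M.Characteristic) :
    M = ⊥ ∨ M = ⊤ := by
  have := hN.normal
  have h1 : (M.map N.subtype).Normal := inferInstance
  rcases hN.min _ h1 (map_subtype_le M) with h2 | h2
  · left
    exact (map_eq_bot_iff_of_injective M (subtype_injective N)).1 h2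
  · right
    rw [eq_top_iff]
    intro x _
    have h3 : (x : G) ∈ M.map N.subtype := by rw [h2]; exact x.2
    obtain ⟨y, hy, hyx⟩ := h3
    rwa [← Subtype.ext (show (y : G) = x from hyx)]

theorem perfect (h : SHyp G p q κ b) {N : Subgroup G} (hN : MinNormal N) : commutator N = ⊤ := by
  have hNn := hN.normal
  rcases hN.char (commutator N) inferInstance with h1 | h1
  · exfalso
    have hab : ∀ x y : N, x * y = y * x := by
      intro x y
      rw [_root_.commutator_def, eq_bot_iff, commutator_le] at h1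
      have h2 := h1 x trivial y trivial
      rwa [mem_bot, commutatorElement_eq_one_iff_mul_comm] at h2
    have hN1 : Nat.card N ≠ 1 := fun h2 => hN.ne_bot (card_eq_one.1 h2)
    obtain ⟨r, hr, hrd⟩ := Nat.exists_prime_and_dvd hN1
    have hrf : Fact r.Prime := ⟨hr⟩
    obtain ⟨R⟩ : Nonempty (Sylow r N) := inferInstance
    have hRn : (R : Subgroup N).Normal := by
      constructor
      intro n hn g
      have : g * n * g⁻¹ = n := by rw [hab g n]; group
      rw [this]; exact hn
    have hRc := R.characteristic_of_normal hRn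
    have h2 : ((R : Subgroup N).map N.subtype).Normal := inferInstance
    have h3 := h.no_normal hr (N := (R : Subgroup N).map N.subtype) (R.2.map _)
    have h4 := (map_eq_bot_iff_of_injective _ (subtype_injective N)).1 h3
    exact R.ne_bot_of_dvd_card hrd h4
  · exact h1

/-- the minimal normal subgroup is simple -/
theorem simple (h : Tor p q κ b k t) {N : Subgroup G} (hN : MinNormal N) (htN : t ∈ N) : IsSimpleGroup N := by
  have hNn := hN.normal
  have hperf := perfect h.toSHyp hN
  have hc := h.cycN N hN.ne_bot hperf htN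
  obtain ⟨s, -, -, -, -, -, hconj⟩ := hc.toCyc.fusion
  have hnt : Nontrivial N := nontrivial_iff_ne_bot N |>.2 hN.ne_bot
  refine ⟨fun M hM => ?_⟩
  by_cases hM1 : M = ⊥
  · exact Or.inl hM1
  right
  -- the core is trivial
  have hch := H1.Cores.pPrimeCore_characteristic (G := N) 2
  have hcore : pPrimeCore 2 N = ⊥ := by
    rcases hN.char _ hch with h1 | h1
    · exact h1
    · exfalso
      have h2 := H1.Cores.coprime_card_pPrimeCore (G := N) 2
      rw [h1, card_top] at h2
      have h3 := h.even_of_perfect N hN.ne_bot hperf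
      have h4 := Nat.Coprime.eq_one_of_dvd h2.symm h3
      omega
  have h2M : 2 ∣ Nat.card M := by
    by_contra h1
    have h2 : M ≤ pPrimeCore 2 N := H1.Cores.le_pPrimeCore hM
      ((Nat.Prime.coprime_iff_not_dvd Nat.prime_two).2 h1).symm
    rw [hcore] at h2
    exact hM1 (le_bot_iff.1 h2)
  have hp : Fact (Nat.Prime 2) := ⟨Nat.prime_two⟩
  obtain ⟨z, hz⟩ := exists_prime_orderOf_dvd_card' 2 h2M
  have hz' : orderOf (z : N) = 2 := by rw [Subgroup.orderOf_coe]; exact hz
  have hinv : ∀ y : N, orderOf y = 2 → y ∈ M := by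
    intro y hy
    have e : ∀ y : N, orderOf y = 2 → IsConj (⟨t, htN⟩ : N) y := by
      intro y hy
      apply hconj y
      · rw [← sq, ← hy, pow_orderOf_eq_one]
      · rintro rfl
        rw [orderOf_one] at hy
        omega
    obtain ⟨g, hg⟩ := isConj_iff.1 ((e z hz').symm.trans (e y hy))
    rw [← hg]
    exact hM.conj_mem _ z.2 g
  have hcl : (closure {y : N | orderOf y = 2}).Characteristic := by
    rw [characteristic_iff_map_le]
    intro φ
    rw [MonoidHom.map_closure, closure_le]
    rintro _ ⟨y, hy, rfl⟩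
    apply Subgroup.subset_closure
    change orderOf (φ y) = 2
    rw [MulEquiv.orderOf_eq]
    exact hy
  rcases hN.char _ hcl with h1 | h1
  · exfalso
    have h2 : (z : N) ∈ closure {y : N | orderOf y = 2} := Subgroup.subset_closure hz'
    rw [h1, mem_bot] at h2
    rw [h2, orderOf_one] at hz'
    omega
  · rw [eq_top_iff, ← h1, closure_le]
    exact hinv

end Tor

end H2.Rec
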