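import Cfsg.Agent.Lib.H2.Rec.Spec4
import Cfsg.Agent.Lib.H46.PSL2Orders
import Cfsg.Agent.Lib.H6.SLCard
import Cfsg.Agent.Lib.H21.PSLTransport

set_option autoImplicit false

/-! Groups with the order and the element orders of `PSL(2, q)`, `q` odd: conclusion. -/

namespace H2.Rec

open Subgroup Cfsg Matrix

theorem SHyp.of_eq {G G' : Type*} [Group G] [Finite G] [Group G'] [Finite G'] {p q κ b : ℕ}
    (h : SHyp G p q κ b) (hcard : Nat.card G' = Nat.card G)
    (hspec : Set.range (orderOf : G' → ℕ) = Set.range (orderOf : G → ℕ)) : SHyp G' p q κ b where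
  hp := h.hp
  p2 := h.p2
  hq := h.hq
  pq := h.pq
  q3 := h.q3
  cases := h.cases
  κeven := h.κeven
  bodd := h.bodd
  card := by rw [hcard, h.card]
  spec := by
    intro g
    have h1 : orderOf g ∈ Set.range (orderOf : G → ℕ) := by rw [← hspec]; exact ⟨g, rfl⟩
    obtain ⟨g', hg'⟩ := h1
    rw [← hg']
    exact h.spec g'
  ex := by
    obtain ⟨g, hg⟩ := h.ex
    have h1 : κ ∈ Set.range (orderOf : G' → ℕ) := by rw [hspec]; exact ⟨g, hg⟩
    exact h1

theorem range_iso {G G' : Type*} [Group G] [Group G'] (e : G ≃* G') :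
    Set.range (orderOf : G' → ℕ) = Set.range (orderOf : G → ℕ) := by
  apply Set.Subset.antisymm
  · rintro _ ⟨g, rfl⟩
    exact ⟨e.symm g, MulEquiv.orderOf_eq e.symm g⟩
  · rintro _ ⟨g, rfl⟩
    exact ⟨e g, MulEquiv.orderOf_eq e g⟩

theorem two_card_psl {F : Type*} [Field F] [Fintype F] (hodd : Odd (Fintype.card F)) :
    2 * Nat.card (ProjectiveSpecialLinearGroup (Fin 2) F) =
      (Fintype.card F + 1) * (Fintype.card F * (Fintype.card F - 1)) := by
  have h1 := H6.SLCard.card_psl (F := F) (n := 2) (by norm_num)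
  have h0 : 1 < Fintype.card F := Fintype.one_lt_card
  obtain ⟨m, hm⟩ := hodd
  have hg : Nat.gcd 2 (Fintype.card F - 1) = 2 := by
    apply Nat.gcd_eq_left
    rw [hm]
    exact ⟨m, by omega⟩
  rw [hg, Fin.prod_univ_two] at h1
  have e1 : Fintype.card F ^ 2 - Fintype.card F ^ ((0 : Fin 2) : ℕ) =
      (Fintype.card F - 1) * (Fintype.card F + 1) := by
    obtain ⟨c, hc⟩ := Nat.exists_eq_add_of_le h0.le
    rw [hc]
    simp
    ring_nf
    omega
  have e2 : Fintype.card F ^ 2 - Fintype.card F ^ ((1 : Fin 2) : ℕ) =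
      Fintype.card F * (Fintype.card F - 1) := by
    obtain ⟨c, hc⟩ := Nat.exists_eq_add_of_le h0.le
    rw [hc]
    simp
    ring_nf
    omega
  rw [e1, e2] at h1
  have h2 : 0 < Fintype.card F - 1 := by omega
  apply Nat.eq_of_mul_eq_mul_left h2
  calc (Fintype.card F - 1) * (2 * Nat.card (ProjectiveSpecialLinearGroup (Fin 2) F))
      = 2 * ((Fintype.card F - 1) * Nat.card (ProjectiveSpecialLinearGroup (Fin 2) F)) := by ring
    _ = (Fintype.card F - 1) * (Fintype.card F + 1) * (Fintype.card F * (Fintype.card F - 1)) := h1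
    _ = _ := by ring

theorem shyp_psl {F : Type*} [Field F] [Fintype F] (hodd : Odd (Fintype.card F)) (h3 : 3 < Fintype.card F) :
    ∃ p κ b : ℕ, SHyp (ProjectiveSpecialLinearGroup (Fin 2) F) p (Fintype.card F) κ b := by
  obtain ⟨p, hp⟩ := CharP.exists F
  obtain ⟨n, hpp, hn⟩ := FiniteField.card F p
  have hpf : Fact p.Prime := ⟨hpp⟩
  have hspec := H46.PSL2Orders.spectrum (F := F) p
  rw [Nat.card_eq_fintype_card] at hspec
  have hcard := two_card_psl (F := F) hodd
  obtain ⟨q, hq⟩ : ∃ q, q = Fintype.card F := ⟨_, rfl⟩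
  rw [← hq] at hspec hcard hodd h3 hn ⊢
  obtain ⟨m, hm⟩ := hodd
  have hg : Nat.gcd 2 (q - 1) = 2 := by
    apply Nat.gcd_eq_left
    rw [hm]
    exact ⟨m, by omega⟩
  rw [hg] at hspec
  have e1 : (q - 1) / 2 = m := by omega
  have e2 : (q + 1) / 2 = m + 1 := by omega
  rw [e1, e2] at hspec
  have hpq : p ∣ q := by rw [hn]; exact dvd_pow_self p n.ne_zero
  have hq' : ∀ r : ℕ, r.Prime → r ∣ q → r = p := by
    intro r hr hrq
    rw [hn] at hrq
    exact (Nat.prime_dvd_prime_iff_eq hr hpp).1 (hr.dvd_of_dvd_pow hrq)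
  have hp2 : p ≠ 2 := by
    rintro rfl
    omega
  have hc : Nat.card (ProjectiveSpecialLinearGroup (Fin 2) F) = 2 * m * ((m + 1) * q) := by
    have h1 : q - 1 = 2 * m := by omega
    have h2 : q + 1 = 2 * (m + 1) := by omega
    rw [h1, h2] at hcard
    have : 2 * Nat.card (ProjectiveSpecialLinearGroup (Fin 2) F) = 2 * (2 * m * ((m + 1) * q)) := by
      rw [hcard]; ring
    omega
  have hs : ∀ g : ProjectiveSpecialLinearGroup (Fin 2) F, orderOf g ∣ p ∨ orderOf g ∣ m ∨ orderOf g ∣ m + 1 := by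
    intro g
    have h1 : orderOf g ∈ Set.range (orderOf : ProjectiveSpecialLinearGroup (Fin 2) F → ℕ) := ⟨g, rfl⟩
    rw [hspec] at h1
    exact h1
  rcases Nat.even_or_odd m with ⟨c, hc'⟩ | ⟨c, hc'⟩
  · have h1 : m ∈ Set.range (orderOf : ProjectiveSpecialLinearGroup (Fin 2) F → ℕ) := by
      rw [hspec]
      exact Or.inr (Or.inl (dvd_refl m))
    exact ⟨p, m, m + 1, ⟨hpp, hp2, hq', hpq, h3, Or.inl ⟨by omega, by omega⟩, ⟨c, by omega⟩, by omega,
      hc, hs, h1⟩⟩
  · have h1 : m + 1 ∈ Set.range (orderOf : ProjectiveSpecialLinearGroup (Fin 2) F → ℕ) := by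
      rw [hspec]
      exact Or.inr (Or.inr (dvd_refl _))
    have h2 : Nat.card (ProjectiveSpecialLinearGroup (Fin 2) F) = 2 * (m + 1) * (m * q) := by
      rw [hc]; ring
    have h4 : ∀ g : ProjectiveSpecialLinearGroup (Fin 2) F, orderOf g ∣ p ∨ orderOf g ∣ m + 1 ∨ orderOf g ∣ m := by
      intro g
      rcases hs g with h | h | h
      · exact Or.inl h
      · exact Or.inr (Or.inr h)
      · exact Or.inr (Or.inl h)
    exact ⟨p, m + 1, m, ⟨hpp, hp2, hq', hpq, h3, Or.inr ⟨by omega, by omega⟩, ⟨c + 1, by omega⟩, by omega,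
      h2, h4, h1⟩⟩

theorem SHyp.tor {G : Type*} [Group G] [Finite G] {p q κ b : ℕ} (h : SHyp G p q κ b) :
    ∃ k t : G, Tor p q κ b k t := by
  obtain ⟨k, hk⟩ := h.ex
  exact ⟨k, k ^ (κ / 2), { toSHyp := h, ko := hk, tk := rfl }⟩

/-- arithmetic -/
theorem arith {q κ b q' κ' b' : ℕ} (h1 : (2 * κ + 1 = q ∧ 2 * b = q + 1) ∨ (2 * κ = q + 1 ∧ 2 * b + 1 = q))
    (h2 : (2 * κ' + 1 = q' ∧ 2 * b' = q' + 1) ∨ (2 * κ' = q' + 1 ∧ 2 * b' + 1 = q'))
    (h : b' * q' = b * q) : q' = q := by
  have key : ∀ {q κ b q' κ' b' : ℕ}, ((2 * κ + 1 = q ∧ 2 * b = q + 1) ∨ (2 * κ = q + 1 ∧ 2 * b + 1 = q)) →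
      ((2 * κ' + 1 = q' ∧ 2 * b' = q' + 1) ∨ (2 * κ' = q' + 1 ∧ 2 * b' + 1 = q')) →
      b' * q' = b * q → ¬ q' < q := by
    intro q κ b q' κ' b' h1 h2 h hlt
    have h3 : q' + 2 ≤ q := by omega
    have h4 : b' ≤ b := by omega
    have h5 : 0 < b := by omega
    have h6 : b' * q' ≤ b * q' := Nat.mul_le_mul_right _ h4
    have h7 : b * q' < b * q := Nat.mul_lt_mul_of_pos_left hlt h5
    omega
  have h3 := key h1 h2 h
  have h4 := key h2 h1 h.symm
  omega

/-- **Main theorem**, odd case -/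
theorem main_odd {G : Type*} [Group G] [Finite G] {F : Type*} [Field F] [Fintype F]
    (hodd : Odd (Fintype.card F)) (h3 : 3 < Fintype.card F)
    (hspec : Set.range (orderOf : G → ℕ) = Set.range (orderOf : ProjectiveSpecialLinearGroup (Fin 2) F → ℕ))
    (hcard : Nat.card G = Nat.card (ProjectiveSpecialLinearGroup (Fin 2) F)) :
    Nonempty (G ≃* ProjectiveSpecialLinearGroup (Fin 2) F) := by
  obtain ⟨p, κ, b, hF⟩ := shyp_psl hodd h3
  have hG := hF.of_eq hcard hspec
  obtain ⟨k, t, h⟩ := hG.tor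
  have hnt : Nontrivial G := ⟨⟨t, 1, h.t1⟩⟩
  obtain ⟨N, hN⟩ := Tor.exists_minNormal (G := G)
  have hNn := hN.normal
  have hperf := Tor.perfect hG hN
  have htN := h.t_mem N hN.ne_bot hperf
  have hc := h.cycN N hN.ne_bot hperf htN
  have hs := h.simple hN htN
  obtain ⟨F', iF', iFf', hodd', ⟨e⟩⟩ := hc.psl
  obtain ⟨s, hsC, hsK, hss, hs1, -, hconj⟩ := hc.toCyc.fusion
  have hi2 : (centralizer ({(⟨t, htN⟩ : N)} : Set N)).index = b * Fintype.card F := by
    rw [← h.index_C]
    have hC : centralizer ({(⟨t, htN⟩ : N)} : Set N) = (centralizer ({t} : Set G)).subgroupOf N :=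
      cent_subgroupOf ⟨t, htN⟩
    rw [hC]
    have htop : centralizer ({t} : Set G) ⊔ N = ⊤ := by
      rw [eq_top_iff]
      intro g _
      have h1 : g * t * g⁻¹ ∈ N := hNn.conj_mem t htN g
      have h2 : (⟨g * t * g⁻¹, h1⟩ : N) * ⟨g * t * g⁻¹, h1⟩ = 1 := by
        apply Subtype.ext
        change (g * t * g⁻¹) * (g * t * g⁻¹) = 1
        calc (g * t * g⁻¹) * (g * t * g⁻¹) = g * (t * t) * g⁻¹ := by group
          _ = 1 := by rw [h.tt]; group
      have h3 : (⟨g * t * g⁻¹, h1⟩ : N) ≠ 1 := by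
        intro h4
        have h5 : g * t * g⁻¹ = 1 := congrArg Subtype.val h4
        apply h.t1
        calc t = g⁻¹ * (g * t * g⁻¹) * g := by group
          _ = 1 := by rw [h5]; group
      obtain ⟨n, hn⟩ := isConj_iff.1 (hconj _ h2 h3)
      have h4 : (n : G) * t * (n : G)⁻¹ = g * t * g⁻¹ := congrArg Subtype.val hn
      have h5 : (n : G)⁻¹ * g ∈ centralizer ({t} : Set G) := by
        rw [mem_centralizer_singleton_iff]
        calc (n : G)⁻¹ * g * t = (n : G)⁻¹ * (g * t * g⁻¹) * g := by group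
          _ = t * ((n : G)⁻¹ * g) := by rw [← h4]; group
      have h6 : g = (n : G) * ((n : G)⁻¹ * g) := by group
      rw [h6]
      exact mul_mem (mem_sup_right n.2) (mem_sup_left h5)
    have h7 : (centralizer ({t} : Set G)).relIndex N = (centralizer ({t} : Set G)).index := by
      have h4 : (centralizer ({t} : Set G)).relIndex N = (centralizer ({t} : Set G)).relIndex (centralizer ({t} : Set G) ⊔ N) := by
        have h5 : (centralizer ({t} : Set G) ⊓ N).relIndex N * N.relIndex (centralizer ({t} : Set G) ⊔ N) =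
            (centralizer ({t} : Set G) ⊓ N).relIndex (centralizer ({t} : Set G) ⊔ N) :=
          relIndex_mul_relIndex _ _ _ inf_le_right le_sup_right
        have h6 : (centralizer ({t} : Set G) ⊓ N).relIndex (centralizer ({t} : Set G)) *
            (centralizer ({t} : Set G)).relIndex (centralizer ({t} : Set G) ⊔ N) =
            (centralizer ({t} : Set G) ⊓ N).relIndex (centralizer ({t} : Set G) ⊔ N) :=
          relIndex_mul_relIndex _ _ _ inf_le_left le_sup_left
        rw [relIndex_sup_right, inf_relIndex_right] at h5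
        rw [inf_relIndex_left] at h6
        have h7 : N.relIndex (centralizer ({t} : Set G)) ≠ 0 :=
          (index_ne_zero_of_finite : (N.subgroupOf (centralizer ({t} : Set G))).index ≠ 0)
        have h8 : N.relIndex (centralizer ({t} : Set G)) * (centralizer ({t} : Set G)).relIndex N =
            N.relIndex (centralizer ({t} : Set G)) *
              (centralizer ({t} : Set G)).relIndex (centralizer ({t} : Set G) ⊔ N) := by
          rw [h6, ← h5, mul_comm]
        exact Nat.eq_of_mul_eq_mul_left (Nat.pos_of_ne_zero h7) h8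
      rw [h4, htop, relIndex_top_right]
    exact h7
  -- `N` is simple, so `|F'| > 3`
  have hF3 : 3 < Fintype.card F' := by
    by_contra hle
    have h1 : 1 < Fintype.card F' := Fintype.one_lt_card
    obtain ⟨m, hm⟩ := hodd'
    have hF' : Fintype.card F' = 3 := by omega
    -- the order is 12
    have h2 := two_card_psl (F := F') ⟨m, hm⟩
    rw [hF'] at h2
    have h12 : Nat.card N = 12 := by
      rw [Nat.card_congr e.toEquiv]; omega
    have h4 := (centralizer ({(⟨t, htN⟩ : N)} : Set N)).index_mul_card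
    rw [hi2, h12] at h4
    have h5 : 12 ≤ b * Fintype.card F := by
      have := h.b3
      nlinarith
    have h6 : 2 ≤ Nat.card (centralizer ({(⟨t, htN⟩ : N)} : Set N)) := by
      by_contra h7
      have h8 : Nat.card (centralizer ({(⟨t, htN⟩ : N)} : Set N)) = 1 := by
        have := Nat.card_pos (α := centralizer ({(⟨t, htN⟩ : N)} : Set N))
        omega
      have h9 := hc.toCyc.KH hc.toCyc.tK
      rw [card_eq_one.1 h8, mem_bot] at h9
      exact hc.toCyc.t1 h9
    nlinarith
  obtain ⟨p', κ', b', hF1⟩ := shyp_psl hodd' hF3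
  have hN' : SHyp N p' (Fintype.card F') κ' b' := hF1.of_eq (Nat.card_congr e.toEquiv) (range_iso e).symm
  obtain ⟨k', t', hT⟩ := hN'.tor
  -- indices of centralizers
  have hi1 : (centralizer ({(⟨t, htN⟩ : N)} : Set N)).index = b' * Fintype.card F' := by
    obtain ⟨g, hg⟩ := isConj_iff.1 (hconj t' hT.tt hT.t1)
    rw [← hT.index_C, ← hg]
    have h1 : centralizer ({g * (⟨t, htN⟩ : N) * g⁻¹} : Set N) =
        (centralizer ({(⟨t, htN⟩ : N)} : Set N)).map (MulAut.conj g).toMonoidHom := by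
      ext x
      rw [mem_cent_conj]
      constructor
      · intro hx
        exact ⟨_, hx, by simp [mul_assoc]⟩
      · rintro ⟨y, hy, rfl⟩
        have : g⁻¹ * ((MulAut.conj g).toMonoidHom y) * g = y := by
          simp [mul_assoc]
        rw [this]
        exact hy
    rw [h1]
    exact (index_map_equiv _ (MulAut.conj g)).symm
  have hqq : Fintype.card F' = Fintype.card F := arith hF.cases hF1.cases (hi1.symm.trans hi2)
  obtain ⟨e'⟩ := H21.PSLTransport.psl_congr_card hqq (Fin 2)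
  have hNG : Nat.card N = Nat.card G := by
    rw [hcard]; exact Nat.card_congr (e.trans e').toEquiv
  have hNtop : N = ⊤ := eq_top_of_card_eq N hNG
  subst hNtop
  exact ⟨(Subgroup.topEquiv.symm.trans e).trans e'⟩

end H2.Rec
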