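import Cfsg.Agent.Lib.H2.Rec.Spec5
import Cfsg.Agent.S1230

set_option autoImplicit false

/-! Groups with the order and the element orders of `PSL(2, q)`, `q` even. -/

namespace H2.Rec

open Subgroup Cfsg Matrix

theorem main_even {G : Type*} [Group G] [Finite G] {F : Type*} [Field F] [Fintype F]
    (heven : Even (Fintype.card F)) (h3 : 3 < Fintype.card F)
    (hspec : Set.range (orderOf : G → ℕ) = Set.range (orderOf : ProjectiveSpecialLinearGroup (Fin 2) F → ℕ))
    (hcard : Nat.card G = Nat.card (ProjectiveSpecialLinearGroup (Fin 2) F)) :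
    Nonempty (G ≃* ProjectiveSpecialLinearGroup (Fin 2) F) := by
  have h2p : Nat.Prime 2 := Nat.prime_two
  have h2f : Fact (Nat.Prime 2) := ⟨h2p⟩
  obtain ⟨p, hp⟩ := CharP.exists F
  obtain ⟨n, hpp, hn⟩ := FiniteField.card F p
  have hp2 : p = 2 := by
    have h1 : 2 ∣ p ^ (n : ℕ) := by rw [← hn]; exact even_iff_two_dvd.1 heven
    exact ((Nat.prime_dvd_prime_iff_eq h2p hpp).1 (h2p.dvd_of_dvd_pow h1)).symm
  subst hp2
  have hs := H46.PSL2Orders.spectrum (F := F) 2
  rw [Nat.card_eq_fintype_card] at hs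
  have h1 := H6.SLCard.card_psl (F := F) (n := 2) (by norm_num)
  obtain ⟨q, hq⟩ : ∃ q, q = Fintype.card F := ⟨_, rfl⟩
  rw [← hq] at hs h1 heven h3 hn
  obtain ⟨m, hm⟩ := heven
  have hg : Nat.gcd 2 (q - 1) = 1 := by
    have : Nat.Coprime 2 (q - 1) := by
      rw [Nat.coprime_two_left]
      exact ⟨m - 1, by omega⟩
    exact this
  rw [hg, Nat.div_one, Nat.div_one] at hs
  rw [hg, one_mul, Fin.prod_univ_two] at h1
  have hc : Nat.card G = q * ((q - 1) * (q + 1)) := by
    rw [hcard]
    have e1 : q ^ 2 - q ^ ((0 : Fin 2) : ℕ) = (q - 1) * (q + 1) := by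
      obtain ⟨c, hc⟩ := Nat.exists_eq_add_of_le (show 1 ≤ q by omega)
      rw [hc]
      simp
      ring_nf
      omega
    have e2 : q ^ 2 - q ^ ((1 : Fin 2) : ℕ) = q * (q - 1) := by
      obtain ⟨c, hc⟩ := Nat.exists_eq_add_of_le (show 1 ≤ q by omega)
      rw [hc]
      simp
      ring_nf
      omega
    rw [e1, e2] at h1
    apply Nat.eq_of_mul_eq_mul_left (show 0 < q - 1 by omega)
    rw [h1]; ring
  have hsp : ∀ g : G, orderOf g ∣ 2 ∨ orderOf g ∣ q - 1 ∨ orderOf g ∣ q + 1 := by
    intro g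
    have h4 : orderOf g ∈ Set.range (orderOf : G → ℕ) := ⟨g, rfl⟩
    rw [hspec, hs] at h4
    exact h4
  have hodd1 : ¬ 2 ∣ q - 1 := by omega
  have hodd2 : ¬ 2 ∣ q + 1 := by omega
  -- even order elements are involutions
  have hev : ∀ g : G, 2 ∣ orderOf g → g ^ 2 = 1 := by
    intro g hg2
    rcases hsp g with h4 | h4 | h4
    · exact orderOf_dvd_iff_pow_eq_one.1 h4
    · exact absurd (hg2.trans h4) hodd1
    · exact absurd (hg2.trans h4) hodd2
  have hC : ∀ t : G, orderOf t = 2 → ∀ c ∈ centralizer ({t} : Set G), c ^ 2 = 1 := by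
    intro t ht c hc
    rw [mem_centralizer_singleton_iff] at hc
    by_cases h4 : 2 ∣ orderOf c
    · exact hev c h4
    · -- `c * t` has order `2 * orderOf c`
      have h5 : orderOf (c * t) = orderOf c * orderOf t := by
        apply (show Commute c t from hc).orderOf_mul_eq_mul_orderOf_of_coprime
        rw [ht]
        exact ((Nat.Prime.coprime_iff_not_dvd h2p).2 h4).symm
      have h6 := hev (c * t) (by rw [h5, ht]; exact dvd_mul_left 2 _)
      have h7 := orderOf_dvd_of_pow_eq_one h6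
      rw [h5, ht] at h7
      have h8 : orderOf c ∣ 1 := Nat.dvd_of_mul_dvd_mul_right (k := 2) (by norm_num) (by rwa [one_mul])
      rw [Nat.dvd_one, orderOf_eq_one_iff] at h8
      rw [h8, one_pow]
  obtain ⟨T⟩ : Nonempty (Sylow 2 G) := inferInstance
  have hTc : Nat.card T = q := by
    rw [T.card_eq_multiplicity, hc, hn]
    congr 1
    have hodd : ¬ 2 ∣ (2 ^ (n : ℕ) - 1) * (2 ^ (n : ℕ) + 1) := by
      rw [← hn]
      intro h4
      rcases (Nat.Prime.dvd_mul h2p).1 h4 with h5 | h5
      · exact hodd1 h5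
      · exact hodd2 h5
    have h5 : (2 ^ (n : ℕ) - 1) * (2 ^ (n : ℕ) + 1) ≠ 0 := by
      intro h6
      exact hodd (h6 ▸ dvd_zero 2)
    rw [Nat.factorization_mul (by positivity) h5, Nat.Prime.factorization_pow h2p]
    simp [Nat.factorization_eq_zero_of_not_dvd hodd]
  have hT2 : ∀ x ∈ (T : Subgroup G), x ^ 2 = 1 := by
    intro x hx
    by_cases hx1 : x = 1
    · rw [hx1, one_pow]
    · obtain ⟨j, hj⟩ := isPowTwo T hx
      apply hev
      have hj0 : j ≠ 0 := by
        rintro rfl
        rw [pow_zero, orderOf_eq_one_iff] at hj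
        exact hx1 hj
      rw [hj]
      exact dvd_pow_self 2 hj0
  have key := Cfsg.Agent.S1230.result T ?_ ?_ ?_
  · obtain ⟨F', iF', iFf', hF', ⟨e⟩⟩ := key
    have h4 : Fintype.card F' = Fintype.card F := by rw [hF', hTc, hq]
    obtain ⟨e'⟩ := H21.PSLTransport.psl_congr_card h4 (Fin 2)
    exact ⟨e.trans e'⟩
  · intro hcyc
    obtain ⟨g, hg⟩ := hcyc.exists_generator
    have h4 : orderOf g = Nat.card T := orderOf_eq_card_of_forall_mem_zpowers hg
    have h5 : (g : G) ^ 2 = 1 := hT2 g g.2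
    have h6 : orderOf (g : G) ∣ 2 := orderOf_dvd_of_pow_eq_one h5
    rw [Subgroup.orderOf_coe, h4, hTc] at h6
    have := Nat.le_of_dvd (by norm_num) h6
    omega
  · intro hn'
    have h4 : (q - 1) * (q + 1) ∣ Nat.card (T : Subgroup G) - 1 := by
      apply SHyp.dvd_sub_one (r := 2) h2p T.2
      · intro l hl hlm
        have hl2 : l ≠ 2 := by
          rintro rfl
          rcases (Nat.Prime.dvd_mul h2p).1 hlm with h5 | h5
          · exact hodd1 h5
          · exact hodd2 h5
        refine ⟨hl2, fun x y hx hy hxy => ?_⟩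
        have h5 := hC y hy x (mem_centralizer_singleton_iff.2 hxy)
        have h6 := orderOf_dvd_of_pow_eq_one h5
        rw [hx] at h6
        exact hl2 ((Nat.prime_dvd_prime_iff_eq hl h2p).1 h6)
      · rw [hc]; exact dvd_mul_left _ _
    rw [hTc] at h4
    have h5 := Nat.le_of_dvd (by omega) h4
    have h6 : (q - 1) * 2 ≤ (q - 1) * (q + 1) := Nat.mul_le_mul_left _ (by omega)
    omega
  · intro t ht
    have h4 := hC t ht
    refine ⟨⟨⟨fun a b => ?_⟩⟩, h4⟩
    have ha : (a : G) * a = 1 := by rw [← sq]; exact h4 a a.2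
    have hb : (b : G) * b = 1 := by rw [← sq]; exact h4 b b.2
    have hab : ((a : G) * b) * (a * b) = 1 := by rw [← sq]; exact h4 _ (mul_mem a.2 b.2)
    apply Subtype.ext
    change (a : G) * b = b * a
    have ha' := inv_eq_of_mul_eq_one_right ha
    have hb' := inv_eq_of_mul_eq_one_right hb
    have hab' := inv_eq_of_mul_eq_one_right hab
    rw [← hab', _root_.mul_inv_rev, ha', hb']

end H2.Rec
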